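import Cfsg.Agent.H21.Walter.Balance
import Cfsg.Agent.H10.Walter.Local

/-!
# The pieces of an involution centralizer in a configuration

A group with abelian Sylow 2-subgroups and trivial odd core has pieces, given the data of each
component; so a configuration is 5/2-balanced with respect to every elementary abelian 2-subgroup.
-/

set_option autoImplicit false
set_option linter.unusedSectionVars false

namespace Cfsg.Agent.H21.Walter

open Subgroup
open Cfsg.Agent

universe u

/-- The data of a simple piece at a Sylow 2-subgroup. -/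
def PieceData (L : Type u) [Group L] (P : Subgroup L) : Prop :=
  (∀ x ∈ P, x * x = 1) ∧ (Nat.card P = 4 ∨ ∀ x ∈ P, x ≠ 1 → OddTrivialAt x)

variable {X : Type u} [Group X] [Finite X]

/-- The pieces, explicitly: the components, with `T ∩ L` for a Sylow subgroup `T ≥ A`. -/
theorem localPieces_of_absyl (h : H10.Walter.AbSyl X) (hO : Cfsg.oddCore X = ⊥)
    (hdata : ∀ L : Subgroup X, Cfsg.IsComponent L → ∀ P : Sylow 2 L, PieceData L (P : Subgroup L))
    {A : Subgroup X} (T : Sylow 2 X) (hAT : A ≤ (T : Subgroup X)) :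
    LocalPieces A (Cfsg.pCore 2 X) (fun L : {L : Subgroup X // Cfsg.IsComponent L} => (L : Subgroup X))
      (fun L => (T : Subgroup X) ⊓ L) := by
  classical
  have : Fact (Nat.Prime 2) := ⟨Nat.prime_two⟩
  have hTc : IsMulCommutative ↥(T : Subgroup X) := h T
  have hZT : Cfsg.pCore 2 X ≤ (T : Subgroup X) := Cores.pCore_le_sylow T
  have hZp : IsPGroup 2 ↥(Cfsg.pCore 2 X) := T.isPGroup'.to_le hZT
  have hself : centralizer ((Cfsg.pCore 2 X ⊔ ⨆ L : {L : Subgroup X // Cfsg.IsComponent L},
      (L : Subgroup X) : Subgroup X) : Set X) ≤ Cfsg.pCore 2 X := by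
    have hle : Cfsg.generalizedFittingSubgroup X ≤ Cfsg.pCore 2 X ⊔
        ⨆ L : {L : Subgroup X // Cfsg.IsComponent L}, (L : Subgroup X) :=
      sup_le (le_sup_of_le_right (sSup_le fun L hL => le_iSup_of_le ⟨L, hL⟩ le_rfl))
        (le_sup_of_le_left (Components.fitting_le_pCore (p := 2) hO))
    refine (centralizer_le hle).trans (le_trans ?_ (Components.fitting_le_pCore (p := 2) hO))
    have hn : (centralizer (Cfsg.generalizedFittingSubgroup X : Set X)).Normal := inferInstance
    have hc : IsMulCommutative ↥(centralizer (Cfsg.generalizedFittingSubgroup X : Set X)) :=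
      ⟨⟨fun x y => Subtype.ext (mem_centralizer_iff.1 y.2 x
        (Components.centralizer_genFitting_le x.2))⟩⟩
    exact le_sSup ⟨hn, ⟨⟨1, Subgroup.upperCentralSeries_one_eq_top_iff.2 hc⟩⟩⟩
  have hsylow : ∀ L : Subgroup X, Cfsg.IsComponent L →
      ∃ P : Sylow 2 L, ((T : Subgroup X) ⊓ L).subgroupOf L = P := fun L hL => by
    rw [inf_subgroupOf_right]
    exact (Cfsg.Agent.S0542.result 2 L hL.1 T).imp fun _ e => e.symm
  refine
    { znorm := inferInstance
      ztwo := hZp
      self := hself
      simple := fun L => (H10.Walter.component_simple h hO L.2).1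
      center_bot := fun L => ?_
      comm := fun L K hne => commutator_eq_bot_iff_le_centralizer.1
        (Components.components_commute L.2 K.2 fun e => hne (Subtype.ext e))
      zcomm := fun L => ?_
      perm := fun x L => ⟨⟨_, Components.component_conj L.2 x⟩, rfl⟩
      v_le := fun L => inf_le_right
      v_ne := fun L => ?_
      v_inv := fun L x hx => ?_
      abel := ?_
      a_le := ?_
      type := fun L => ?_ }
  · exact ((H10.Walter.component_simple h hO L.2).1.eq_bot_or_eq_top_of_normal _
      inferInstance).resolve_right (Components.qs_center_ne_top L.2.2)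
  · have := hZp.isNilpotent
    rw [le_centralizer_iff]
    exact commutator_eq_bot_iff_le_centralizer.1
      (Components.component_commutator_solvable L.2 inferInstance (fun _ hx => le_normalizer_of_normal hx))
  · obtain ⟨P, hP⟩ := hsylow L L.2
    intro e
    rw [e, bot_subgroupOf] at hP
    exact P.ne_bot_of_dvd_card (Components.dvd_card_component (p := 2) hO L.2) hP.symm
  · obtain ⟨P, hP⟩ := hsylow L L.2
    exact congrArg Subtype.val ((hdata L L.2 P).1 ⟨x, hx.2⟩ (hP ▸ hx))
  · exact ⟨⟨fun x y => Subtype.ext (congrArg Subtype.val (hTc.is_comm.comm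
      ⟨x, sup_le hZT (iSup_le fun L => inf_le_left) x.2⟩
      ⟨y, sup_le hZT (iSup_le fun L => inf_le_left) y.2⟩) :)⟩⟩
  · intro s hs
    have hbase : (Cfsg.pCore 2 X ⊔ ⨆ L : {L : Subgroup X // Cfsg.IsComponent L},
        (T : Subgroup X) ⊓ L) ≤ (T : Subgroup X) := sup_le hZT (iSup_le fun L => inf_le_left)
    have key : ∀ Ls : Finset {L : Subgroup X // Cfsg.IsComponent L},
        ∃ g ∈ (Cfsg.pCore 2 X ⊔ ⨆ L : {L : Subgroup X // Cfsg.IsComponent L},
          (T : Subgroup X) ⊓ L), ∀ L ∈ Ls, s * g⁻¹ ∈ centralizer ((L : Subgroup X) : Set X) := by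
      intro Ls
      induction Ls using Finset.induction_on with
      | empty => exact ⟨1, one_mem _, fun L hL => by simp at hL⟩
      | @insert L Ls hni ih =>
        obtain ⟨g, hg, hgL⟩ := ih
        obtain ⟨a, ha, hsa⟩ := H10.Walter.exists_inner h hO L.2 T
          (Subgroup.mul_mem _ (hAT hs) (Subgroup.inv_mem _ (hbase hg)))
        refine ⟨a * g, mul_mem (mem_sup_right (mem_iSup_of_mem L ha)) hg, fun K hK => ?_⟩
        rw [mul_inv_rev, ← mul_assoc]
        rcases Finset.mem_insert.1 hK with rfl | hK
        · exact hsa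
        · have hne : L ≠ K := fun e => hni (e ▸ hK)
          exact Subgroup.mul_mem _ (hgL K hK) (Subgroup.inv_mem _
            (commutator_eq_bot_iff_le_centralizer.1
              (Components.components_commute L.2 K.2 fun e => hne (Subtype.ext e)) ha.2))
    obtain ⟨Ls, hLs⟩ : ∃ Ls : Finset {L : Subgroup X // Cfsg.IsComponent L}, ∀ L, L ∈ Ls :=
      ⟨(Set.toFinite (Set.univ : Set {L : Subgroup X // Cfsg.IsComponent L})).toFinset,
        fun L => by simp⟩
    obtain ⟨g, hg, hgL⟩ := key Ls
    have hz : s * g⁻¹ ∈ Cfsg.pCore 2 X := by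
      refine hself ?_
      have hsg : s * g⁻¹ ∈ (T : Subgroup X) :=
        Subgroup.mul_mem _ (hAT hs) (Subgroup.inv_mem _ (hbase hg))
      have hle : (Cfsg.pCore 2 X ⊔ ⨆ L : {L : Subgroup X // Cfsg.IsComponent L},
          (L : Subgroup X)) ≤ centralizer {s * g⁻¹} := by
        refine sup_le (fun z hz => mem_centralizer_singleton_iff.2 (congrArg Subtype.val
          (hTc.is_comm.comm ⟨z, hZT hz⟩ ⟨_, hsg⟩))) (iSup_le fun L l hl => ?_)
        exact mem_centralizer_singleton_iff.2 (mem_centralizer_iff.1 (hgL L (hLs L)) l hl)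
      exact mem_centralizer_iff.2 fun x hx => mem_centralizer_singleton_iff.1 (hle hx)
    simpa using mul_mem (mem_sup_left hz) hg
  · obtain ⟨P, hP⟩ := hsylow L L.2
    rcases (hdata L L.2 P).2 with h4 | hb
    · left
      rw [← h4, ← hP, Nat.card_congr (subgroupOfEquivOfLe inf_le_right).toEquiv]
    · exact Or.inr fun x hx => hb x (hP ▸ hx)

/-- A group with abelian Sylow 2-subgroups and trivial odd core has pieces. -/
theorem hasPieces_of_absyl (h : H10.Walter.AbSyl X) (hO : Cfsg.oddCore X = ⊥)
    (hdata : ∀ L : Subgroup X, Cfsg.IsComponent L → ∀ P : Sylow 2 L, PieceData L (P : Subgroup L))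
    {A : Subgroup X} (hA : IsPGroup 2 A) : HasPieces A := by
  obtain ⟨T, hAT⟩ := hA.exists_le_sylow
  exact ⟨_, _, _, _, localPieces_of_absyl h hO hdata T hAT⟩

variable {G : Type u} [Group G] [Finite G]

/-- A configuration whose pieces have the data is 5/2-balanced with respect to `A`. -/
theorem isKHalfBalanced_of_cfg (hG : H10.Walter.Cfg G) {A : Subgroup G}
    (hA : Cfsg.IsElementaryAbelian 2 A)
    (hdata : ∀ (L : Type u) [Group L] [Finite L], IsSimpleGroup L → ¬ IsMulCommutative L →
      H10.Walter.AbSyl L → H10.Walter.Shape L → ∀ P : Sylow 2 L, PieceData L (P : Subgroup L)) :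
    Cfsg.IsKHalfBalancedWrt 2 2 A := by
  have : Fact (Nat.Prime 2) := ⟨Nat.prime_two⟩
  refine isKHalfBalanced hA fun b _ hb1 => hasPieces_of_absyl (hG.absyl_bar _)
    (H10.Walter.oddCore_bar _) (fun L hL P => ?_)
    (((H47.isPGroup_of_elementaryAbelian hA).comap_subtype).map _)
  obtain ⟨hs, hn⟩ := hG.component_simple_bar _ hL
  exact hdata L hs hn ((hG.absyl_bar _).subgroup L)
    (hG.component_shape_bar (hG.centralizer_ne_top hb1) hL) P

end Cfsg.Agent.H21.Walter
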