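import Cfsg.Agent.H88.Walter.Piece
import Cfsg.Agent.Coprime.Basic

/-!
# Balance in a group which is a product of pieces

`X` is a group with normal 2-group `Z` and commuting simple pieces `L i` with elementary subgroups
`V i`; a piece either has `|V i| = 4` or, for `v ∈ V i`, no non-trivial odd group of automorphisms
fixes `v` and is normalized by its centralizer.  An odd subgroup lying under odd normal subgroups of the centralizers of the
involutions of `B ≤ A` centralizes `A` if `|B| ≥ 4`, and is trivial if `|B| ≥ 8`.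
-/

set_option autoImplicit false
set_option linter.unusedSectionVars false

namespace Cfsg.Agent.H21.Walter

open Subgroup
open Cfsg.Agent Cfsg.Agent.Coprime
open scoped commutatorElement

universe u v

variable {X : Type u} [Group X] [Finite X]

/-- No non-trivial odd group of automorphisms fixes `x` and is normalized by `C(x)`. -/
def OddTrivialAt {L : Type u} [Group L] (x : L) : Prop :=
  ∀ W : Subgroup (MulAut L), Odd (Nat.card W) → (∀ w ∈ W, w x = x) →
    (∀ c ∈ centralizer {x}, MulAut.conj c ∈ normalizer (W : Set (MulAut L))) → W = ⊥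

/-- Balance and rigidity of the centralizer give the property. -/
theorem oddTrivialAt_of_rigid {L : Type u} [Group L] [Finite L] (hZ : center L = ⊥) {x : L}
    (hbal : H88.Walter.BalancedAt x)
    (hrig : ∀ φ : MulAut L, Odd (orderOf φ) → H88.Walter.Fixes φ (centralizer {x}) → φ = 1) :
    OddTrivialAt x := by
  intro W hW hx hn
  have h0 : H88.Walter.innerPart W ⊓ centralizer {x} = ⊥ := by
    refine hbal _ inf_le_right
      ((H88.Walter.odd_card_innerPart hZ hW).of_dvd_nat (card_dvd_of_le inf_le_left)) fun c hc => ?_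
    refine inf_normalizer_le_normalizer_inf ⟨mem_normalizer_iff.2 fun y => ?_, le_normalizer hc⟩
    rw [H88.Walter.mem_innerPart, H88.Walter.mem_innerPart, map_mul, map_mul, map_inv]
    exact mem_normalizer_iff.1 (hn c hc) _
  rw [eq_bot_iff]
  exact fun w hw => mem_bot.2 (hrig w (hW.of_dvd_nat (orderOf_dvd_natCard W hw))
    (H88.Walter.fixes_centralizer_of_innerPart hn h0
      (fun w hw c hc => H88.Walter.centralizer_invariant (hx w hw) hc) hw))

/-- The pieces of a centralizer modulo its core. -/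
structure LocalPieces (A : Subgroup X) {ι : Type v} (Z : Subgroup X) (L V : ι → Subgroup X) :
    Prop where
  znorm : Z.Normal
  ztwo : IsPGroup 2 Z
  self : centralizer ((Z ⊔ ⨆ i, L i : Subgroup X) : Set X) ≤ Z
  simple : ∀ i, IsSimpleGroup (L i)
  center_bot : ∀ i, center (L i) = ⊥
  comm : ∀ i j, i ≠ j → L i ≤ centralizer (L j : Set X)
  zcomm : ∀ i, Z ≤ centralizer (L i : Set X)
  perm : ∀ (x : X) (i : ι), ∃ j, (L i).map (MulAut.conj x).toMonoidHom = L j
  v_le : ∀ i, V i ≤ L i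
  v_ne : ∀ i, V i ≠ ⊥
  v_inv : ∀ i, ∀ x ∈ V i, x * x = 1
  abel : IsMulCommutative ↥(Z ⊔ ⨆ i, V i)
  a_le : A ≤ Z ⊔ ⨆ i, V i
  type : ∀ i, Nat.card (V i) = 4 ∨ ∀ x ∈ (V i).subgroupOf (L i), x ≠ 1 → OddTrivialAt x

/-- There are pieces. -/
def HasPieces (A : Subgroup X) : Prop :=
  ∃ (ι : Type u) (Z : Subgroup X) (L V : ι → Subgroup X), LocalPieces A Z L V

theorem eq_one_of_odd {W : Subgroup X} (hW : Odd (Nat.card W)) {x : X} (hx : x ∈ W)
    (h : x * x = 1) : x = 1 :=
  orderOf_eq_one_iff.1 (Nat.eq_one_of_dvd_coprimes (Nat.coprime_two_left.2 hW)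
    (orderOf_dvd_of_pow_eq_one (by rw [pow_two, h])) (orderOf_dvd_natCard W hx))

namespace LocalPieces

variable {A : Subgroup X} {ι : Type v} {Z : Subgroup X} {L V : ι → Subgroup X}
  (P : LocalPieces A Z L V)
include P

theorem inf_cent {i : ι} {x : X} (hx : x ∈ L i) (hc : x ∈ centralizer (L i : Set X)) : x = 1 := by
  have h : (⟨x, hx⟩ : L i) ∈ center (L i) :=
    mem_center_iff.2 fun y => Subtype.ext (mem_centralizer_iff.1 hc y y.2)
  rw [P.center_bot i, mem_bot] at h
  exact congrArg Subtype.val h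

theorem base_le_cent {e : X} (he : e ∈ Z ⊔ ⨆ i, V i) : Z ⊔ ⨆ i, V i ≤ centralizer {e} :=
  fun x hx => mem_centralizer_singleton_iff.2
    (congrArg Subtype.val (P.abel.is_comm.comm ⟨x, hx⟩ ⟨e, he⟩))

theorem base_le (i : ι) : Z ⊔ ⨆ j, V j ≤ V i ⊔ centralizer (L i : Set X) := by
  refine sup_le ((P.zcomm i).trans le_sup_right) (iSup_le fun j => ?_)
  rcases eq_or_ne j i with rfl | h
  · exact le_sup_left
  · exact ((P.v_le j).trans (P.comm j i h)).trans le_sup_right

theorem decomp {e : X} (he : e ∈ Z ⊔ ⨆ j, V j) (i : ι) :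
    ∃ v ∈ V i, ∃ c ∈ centralizer (L i : Set X), v * c = e := by
  refine (Coprime.mem_sup_iff (fun c hc => ?_)).1 (P.base_le i he)
  refine mem_normalizer_of_map_conj (le_antisymm ?_ fun v hv => ?_)
  · rintro _ ⟨v, hv, rfl⟩
    simpa [(commute_of_mem_centralizer hc (P.v_le i hv)).symm] using hv
  · exact ⟨v, hv, by simp [(commute_of_mem_centralizer hc (P.v_le i hv)).symm]⟩

/-- An odd subgroup normalized by the base fixes every piece. -/
theorem fixes_piece {W : Subgroup X} (hW : Odd (Nat.card W))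
    (hn : Z ⊔ ⨆ j, V j ≤ normalizer (W : Set X)) {w : X} (hw : w ∈ W) (i : ι) :
    w ∈ normalizer (L i : Set X) := by
  obtain ⟨j, hj⟩ := P.perm w i
  rcases eq_or_ne i j with h | h
  · exact mem_normalizer_of_map_conj (hj.trans (by rw [h]))
  exfalso
  obtain ⟨v, hv, hv1⟩ := (V i).ne_bot_iff_exists_ne_one.1 (P.v_ne i) |>.elim
    fun x hx => (⟨x.1, x.2, fun h => hx (Subtype.ext h)⟩ : ∃ v ∈ V i, v ≠ 1)
  have hv' : w * v * w⁻¹ ∈ L j := hj ▸ ⟨v, P.v_le i hv, by simp⟩
  have hc : v * (w * v * w⁻¹) = w * v * w⁻¹ * v :=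
    (mem_centralizer_iff.1 (P.comm i j h (P.v_le i hv)) _ hv').symm
  have hmem : w * v * w⁻¹ * v⁻¹ ∈ W := by
    have := W.mul_mem hw ((mem_normalizer_iff.1 (hn (mem_sup_right
      (mem_iSup_of_mem i hv))) w⁻¹).1 (W.inv_mem hw))
    simpa [mul_assoc] using this
  have hvi : v⁻¹ = v := inv_eq_of_mul_eq_one_left (P.v_inv i v hv)
  rw [hvi] at hmem
  have h1 := eq_one_of_odd hW hmem (by
    calc w * v * w⁻¹ * v * (w * v * w⁻¹ * v)
        = w * v * w⁻¹ * (v * (w * v * w⁻¹)) * v := by group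
      _ = w * (v * v) * w⁻¹ * (v * v) := by rw [hc]; group
      _ = 1 := by rw [P.v_inv i v hv]; group)
  rw [mul_eq_one_iff_eq_inv, hvi] at h1
  rw [h1] at hv'
  exact hv1 (P.inf_cent hv' (P.comm i j h (P.v_le i hv)))

theorem le_cent_Z {W : Subgroup X} (hW : Odd (Nat.card W))
    (hn : Z ⊔ ⨆ j, V j ≤ normalizer (W : Set X)) : W ≤ centralizer (Z : Set X) := by
  intro w hw
  refine mem_centralizer_iff.2 fun z hz => ?_
  have h1 : w * z * w⁻¹ * z⁻¹ ∈ Z := Z.mul_mem (P.znorm.conj_mem z hz w) (Z.inv_mem hz)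
  have h2 : w * z * w⁻¹ * z⁻¹ ∈ W := by
    have := W.mul_mem hw ((mem_normalizer_iff.1 (hn (mem_sup_left hz)) w⁻¹).1 (W.inv_mem hw))
    simpa [mul_assoc] using this
  obtain ⟨n, hn'⟩ := P.ztwo ⟨_, h1⟩
  have h3 : (w * z * w⁻¹ * z⁻¹) ^ 2 ^ n = 1 := by simpa [Subtype.ext_iff] using hn'
  have h4 : w * z * w⁻¹ * z⁻¹ = 1 := orderOf_eq_one_iff.1 (Nat.eq_one_of_dvd_coprimes
    (Nat.Coprime.pow_left n (Nat.coprime_two_left.2 hW)) (orderOf_dvd_of_pow_eq_one h3)
    (orderOf_dvd_natCard W h2))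
  rw [← commutatorElement_def, commutatorElement_eq_one_iff_mul_comm] at h4
  exact h4.symm

/-- The action of `W` on a piece. -/
noncomputable def act (W : Subgroup X) (i : ι) : Subgroup (MulAut (L i)) :=
  (W.subgroupOf (normalizer (L i : Set X))).map (L i).normalizerMonoidHom

omit P [Finite X] in
theorem act_apply {i : ι} (x : normalizer (L i : Set X)) (l : L i) :
    (((L i).normalizerMonoidHom x) l : X) = x * l * (x : X)⁻¹ := rfl

theorem act_odd {W : Subgroup X} (hW : Odd (Nat.card W)) (i : ι) :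
    Odd (Nat.card (act (L := L) W i)) := by
  refine hW.of_dvd_nat ((Subgroup.card_map_dvd _ _).trans ?_)
  rw [← Subgroup.card_map_of_injective (Subgroup.subtype_injective (normalizer (L i : Set X)))]
  exact card_dvd_of_le (by rw [subgroupOf_map_subtype]; exact inf_le_left)

omit P [Finite X] in
theorem le_cent_of_act {W : Subgroup X} {i : ι} (hfix : W ≤ normalizer (L i : Set X))
    (h : act (L := L) W i = ⊥) : W ≤ centralizer (L i : Set X) := by
  intro w hw
  refine mem_centralizer_iff.2 fun l hl => ?_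
  have hm : (L i).normalizerMonoidHom ⟨w, hfix hw⟩ ∈ act (L := L) W i :=
    mem_map_of_mem _ (show (⟨w, hfix hw⟩ : normalizer (L i : Set X)) ∈ W.subgroupOf _ from hw)
  rw [h, mem_bot] at hm
  have h1 := congrArg Subtype.val (DFunLike.congr_fun hm (⟨l, hl⟩ : L i))
  rw [act_apply, MulAut.one_apply] at h1
  exact (mul_inv_eq_iff_eq_mul.1 h1).symm

/-- The part of a fixed element in a piece is fixed. -/
theorem fix_part {i : ι} {v c e w : X} (hv : v ∈ L i) (hc : c ∈ centralizer (L i : Set X))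
    (he : v * c = e) (hw : w ∈ normalizer (L i : Set X)) (hwe : Commute w e) :
    w * v * w⁻¹ = v := by
  subst he
  have h1 : w * v * w⁻¹ ∈ L i := Coprime.conj_mem hw hv
  have h2 : w * c * w⁻¹ ∈ centralizer (L i : Set X) := by
    refine mem_centralizer_iff.2 fun l hl => ?_
    have h := mem_centralizer_iff.1 hc _ (Coprime.conj_mem' hw hl)
    calc l * (w * c * w⁻¹) = w * ((w⁻¹ * l * w) * c) * w⁻¹ := by group
      _ = w * (c * (w⁻¹ * l * w)) * w⁻¹ := by rw [h]
      _ = w * c * w⁻¹ * l := by group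
  have h3 : v⁻¹ * (w * v * w⁻¹) = c * (w * c * w⁻¹)⁻¹ := by
    have h4 : w * v * w⁻¹ * (w * c * w⁻¹) = v * c := by
      rw [show w * v * w⁻¹ * (w * c * w⁻¹) = w * (v * c) * w⁻¹ by group, hwe.eq,
        mul_inv_cancel_right]
    rw [inv_mul_eq_iff_eq_mul, ← mul_assoc, ← h4, mul_inv_cancel_right]
  have h5 := P.inf_cent ((L i).mul_mem ((L i).inv_mem hv) h1)
    (h3 ▸ mul_mem hc (inv_mem h2))
  exact (inv_mul_eq_one.1 h5).symm

variable {W : Subgroup X} {e : X}

/-- An element of the base which centralizes a piece makes its odd normal subgroups do so. -/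
theorem le_cent_of_trivial (hW : Odd (Nat.card W)) (he : e ∈ Z ⊔ ⨆ j, V j)
    (hn : centralizer {e} ≤ normalizer (W : Set X)) {i : ι}
    (hi : e ∈ centralizer (L i : Set X)) : W ≤ centralizer (L i : Set X) := by
  have hfix : W ≤ normalizer (L i : Set X) := fun w hw =>
    P.fixes_piece hW ((P.base_le_cent he).trans hn) hw i
  have hL : L i ≤ normalizer (W : Set X) := fun l hl => hn
    (mem_centralizer_singleton_iff.2 (mem_centralizer_iff.1 hi l hl))
  have hbot : (W.subgroupOf (L i)) = ⊥ := by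
    have hN : (W.subgroupOf (L i)).Normal := ⟨fun x hx g =>
      show (g : X) * x * (g : X)⁻¹ ∈ W from Coprime.conj_mem (hL g.2) hx⟩
    have := P.simple i
    refine (IsSimpleGroup.eq_bot_or_eq_top_of_normal _ hN).resolve_right fun h => ?_
    have hle : L i ≤ W := Subgroup.subgroupOf_eq_top.1 h
    obtain ⟨x, hx⟩ := (V i).ne_bot_iff_exists_ne_one.1 (P.v_ne i)
    exact hx (Subtype.ext (eq_one_of_odd hW (hle (P.v_le i x.2)) (P.v_inv i x x.2)))
  intro w hw
  refine mem_centralizer_iff.2 fun l hl => ?_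
  have h1 : w * l * w⁻¹ * l⁻¹ ∈ L i :=
    (L i).mul_mem (Coprime.conj_mem (hfix hw) hl) ((L i).inv_mem hl)
  have h2 : w * l * w⁻¹ * l⁻¹ ∈ W := by
    have := W.mul_mem hw ((mem_normalizer_iff.1 (hL hl) w⁻¹).1 (W.inv_mem hw))
    simpa [mul_assoc] using this
  have h3 : (⟨_, h1⟩ : L i) ∈ W.subgroupOf (L i) := h2
  rw [hbot, mem_bot] at h3
  have h4 : w * l * w⁻¹ * l⁻¹ = 1 := congrArg Subtype.val h3
  rw [← commutatorElement_def, commutatorElement_eq_one_iff_mul_comm] at h4
  exact h4.symm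

/-- At a balanced piece every involution of the base is harmless. -/
theorem le_cent_of_balanced (hW : Odd (Nat.card W)) (hWe : W ≤ centralizer {e})
    (he : e ∈ Z ⊔ ⨆ j, V j) (hn : centralizer {e} ≤ normalizer (W : Set X)) {i : ι}
    (hb : ∀ x ∈ (V i).subgroupOf (L i), x ≠ 1 → OddTrivialAt x) :
    W ≤ centralizer (L i : Set X) := by
  obtain ⟨v, hv, c, hc, hvc⟩ := P.decomp he i
  rcases eq_or_ne v 1 with rfl | hv1
  · exact P.le_cent_of_trivial hW he hn (by rwa [← hvc, one_mul])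
  have hfix : W ≤ normalizer (L i : Set X) := fun w hw =>
    P.fixes_piece hW ((P.base_le_cent he).trans hn) hw i
  set x : L i := ⟨v, P.v_le i hv⟩ with hx
  refine le_cent_of_act hfix
    (hb x hv (fun h => hv1 (congrArg Subtype.val h)) _ (P.act_odd hW i) ?_ ?_)
  · rintro _ ⟨⟨w, hwn⟩, hw, rfl⟩
    exact Subtype.ext (P.fix_part (P.v_le i hv) hc hvc hwn
      (mem_centralizer_singleton_iff.1 (hWe hw)))
  · intro y hy
    have hyv : (y : X) * v = v * y := congrArg Subtype.val (mem_centralizer_singleton_iff.1 hy)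
    have hye : (y : X) ∈ centralizer {e} := mem_centralizer_singleton_iff.2 (by
      rw [← hvc, ← mul_assoc, hyv, mul_assoc, mem_centralizer_iff.1 hc _ y.2, mul_assoc])
    have hyn : (y : X) ∈ normalizer (L i : Set X) := le_normalizer y.2
    have hconj : MulAut.conj y = (L i).normalizerMonoidHom ⟨y, hyn⟩ :=
      MulEquiv.ext fun l => Subtype.ext (by rw [act_apply]; simp)
    refine mem_normalizer_of_map_conj (eq_of_le_of_card_ge ?_ (by rw [Coprime.card_map_conj]))
    rintro _ ⟨_, ⟨w, hw, rfl⟩, rfl⟩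
    refine ⟨⟨y, hyn⟩ * w * ⟨y, hyn⟩⁻¹, Coprime.conj_mem (hn hye) hw, ?_⟩
    simp [map_mul, hconj]

/-- A piece with `|V i| = 4`: only `V i` is centralized. -/
theorem fix_four {B : Subgroup X} (hB : B ≤ A) (hWB : W ≤ centralizer (B : Set X))
    (hfix : ∀ i, W ≤ normalizer (L i : Set X)) {i : ι}
    (hinj : ∀ b ∈ B, b ∈ centralizer (L i : Set X) → b = 1) :
    Nat.card B ≤ Nat.card (V i) ∧
      (Nat.card (V i) ≤ Nat.card B → W ≤ centralizer (V i : Set X)) := by
  choose f hf c hc hfc using fun b : B => P.decomp (P.a_le (hB b.2)) i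
  let F : B → V i := fun b => ⟨f b, hf b⟩
  have hF : Function.Injective F := by
    intro b b' h
    have h' : f b = f b' := congrArg Subtype.val h
    have hmem : (b : X)⁻¹ * b' ∈ centralizer (L i : Set X) := by
      have : (b : X)⁻¹ * b' = (c b)⁻¹ * c b' := by
        rw [← hfc b, ← hfc b', h', mul_inv_rev, mul_assoc, inv_mul_cancel_left]
      rw [this]
      exact mul_mem (inv_mem (hc b)) (hc b')
    exact Subtype.ext (inv_mul_eq_one.1 (hinj _ (B.mul_mem (B.inv_mem b.2) b'.2) hmem))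
  refine ⟨Nat.card_le_card_of_injective F hF, fun hle w hw => mem_centralizer_iff.2 fun v hv => ?_⟩
  obtain ⟨b, hb⟩ := (hF.bijective_of_nat_card_le hle).2 ⟨v, hv⟩
  have hbv : f b = v := congrArg Subtype.val hb
  have hwb : Commute w (b : X) := (mem_centralizer_iff.1 (hWB hw) b b.2).symm
  have h := P.fix_part (P.v_le i hv) (hc b) (hbv ▸ hfc b) (hfix i hw) hwb
  exact (mul_inv_eq_iff_eq_mul.1 h).symm

variable (hW : Odd (Nat.card W))

/-- The hypotheses on `W`: it lies under odd normal subgroups of the `C(e)`, `e ∈ B#`. -/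
structure Under (B W : Subgroup X) : Prop where
  odd : Odd (Nat.card W)
  norm : centralizer (B : Set X) ≤ normalizer (W : Set X)
  cover : ∀ e ∈ B, e ≠ 1 → ∃ K : Subgroup X, Odd (Nat.card K) ∧ K ≤ centralizer {e} ∧
    centralizer {e} ≤ normalizer (K : Set X) ∧ W ≤ K

omit P in
theorem Under.le_cent {B : Subgroup X} (h : Under B W) : W ≤ centralizer (B : Set X) := by
  refine fun w hw => mem_centralizer_iff.2 fun e he => ?_
  rcases eq_or_ne e 1 with rfl | he1
  · simp
  obtain ⟨K, -, hKe, -, hWK⟩ := h.cover e he he1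
  exact (mem_centralizer_singleton_iff.1 (hKe (hWK hw))).symm

theorem piece_cases {B : Subgroup X} (hB : B ≤ A) (h : Under B W) (hB1 : B ≠ ⊥) (i : ι) :
    W ≤ centralizer (L i : Set X) ∨
      (Nat.card (V i) = 4 ∧ Nat.card B ≤ 4 ∧ (4 ≤ Nat.card B → W ≤ centralizer (V i : Set X))) := by
  by_cases hex : ∃ b ∈ B, b ≠ 1 ∧ b ∈ centralizer (L i : Set X)
  · obtain ⟨b, hb, hb1, hbL⟩ := hex
    obtain ⟨K, hK, -, hKn, hWK⟩ := h.cover b hb hb1
    exact Or.inl (hWK.trans (P.le_cent_of_trivial hK (P.a_le (hB hb)) hKn hbL))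
  rcases P.type i with h4 | hb
  · have hbase : Z ⊔ ⨆ j, V j ≤ centralizer (B : Set X) := fun x hx =>
      mem_centralizer_iff.2 fun b hb => (mem_centralizer_singleton_iff.1
        (P.base_le_cent (P.a_le (hB hb)) hx)).symm
    have hff := P.fix_four hB h.le_cent
      (fun j w hw => P.fixes_piece h.odd (hbase.trans h.norm) hw j)
      (fun b hb hbL => not_not.1 fun hb1 => hex ⟨b, hb, hb1, hbL⟩)
    exact Or.inr ⟨h4, hff.1.trans_eq h4, fun hle => hff.2 (h4.trans_le hle)⟩
  · obtain ⟨⟨e, he⟩, he1⟩ := B.ne_bot_iff_exists_ne_one.1 hB1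
    obtain ⟨K, hK, hKe, hKn, hWK⟩ := h.cover e he fun hh => he1 (Subtype.ext hh)
    exact Or.inl (hWK.trans (P.le_cent_of_balanced hK hKe (P.a_le (hB he)) hKn hb))

theorem base_norm {B : Subgroup X} (hB : B ≤ A) (h : Under B W) :
    Z ⊔ ⨆ j, V j ≤ normalizer (W : Set X) :=
  le_trans (fun x hx => mem_centralizer_iff.2 fun b hb => (mem_centralizer_singleton_iff.1
    (P.base_le_cent (P.a_le (hB hb)) hx)).symm) h.norm

/-- Weak 2-balance. -/
theorem weak {B : Subgroup X} (hB : B ≤ A) (hc : 4 ≤ Nat.card B) (h : Under B W) :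
    W ≤ centralizer (A : Set X) := by
  have hB1 : B ≠ ⊥ := by rintro rfl; simp at hc
  refine le_trans ?_ (centralizer_le P.a_le)
  rw [le_centralizer_iff]
  refine sup_le (le_centralizer_iff.1 (P.le_cent_Z h.odd (P.base_norm hB h)))
    (iSup_le fun i => le_centralizer_iff.1 ?_)
  rcases P.piece_cases hB h hB1 i with h1 | ⟨-, -, h2⟩
  · exact h1.trans (centralizer_le (P.v_le i))
  · exact h2 hc

/-- 3-balance. -/
theorem three {B : Subgroup X} (hB : B ≤ A) (hc : 8 ≤ Nat.card B) (h : Under B W) : W = ⊥ := by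
  have hB1 : B ≠ ⊥ := by rintro rfl; simp at hc
  have hle : W ≤ Z := by
    refine le_trans ?_ P.self
    rw [le_centralizer_iff]
    refine sup_le (le_centralizer_iff.1 (P.le_cent_Z h.odd (P.base_norm hB h)))
      (iSup_le fun i => le_centralizer_iff.1 ?_)
    rcases P.piece_cases hB h hB1 i with h1 | ⟨-, h2, -⟩
    · exact h1
    · omega
  rw [eq_bot_iff]
  intro w hw
  obtain ⟨n, hn⟩ := P.ztwo ⟨w, hle hw⟩
  have h3 : w ^ 2 ^ n = 1 := by simpa [Subtype.ext_iff] using hn
  exact mem_bot.2 (orderOf_eq_one_iff.1 (Nat.eq_one_of_dvd_coprimes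
    (Nat.Coprime.pow_left n (Nat.coprime_two_left.2 h.odd)) (orderOf_dvd_of_pow_eq_one h3)
    (orderOf_dvd_natCard W hw)))

end LocalPieces

end Cfsg.Agent.H21.Walter
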