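import Cfsg.Agent.H88.Walter.Ctx
import Cfsg.Agent.H88.Walter.Data

/-!
# The invariant pair

If `A = Q × V` with `|Q| ≤ 4`, `|Q| ≤ |V|` and an element of `N(A)` fixing `Q` pointwise and
transitive on `V#`, then, granted the linear lemma, `|Q| = 4` and `N(A)` normalizes `Q` and `V`.
-/

set_option autoImplicit false
set_option linter.unusedSectionVars false
set_option linter.style.haveILetI false

namespace Cfsg.Agent.H21.Walter

open Subgroup Cfsg.Agent
open Cfsg.Agent.H88.Walter (Ctx RedHyp)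

universe u

variable {G : Type u} [Group G] [Finite G] {S : Sylow 2 G} {A : Subgroup G}

theorem comm_A (h : Ctx S A) {x y : G} (hx : x ∈ A) (hy : y ∈ A) : x * y = y * x :=
  (h.comm (h.le_S hx) (h.le_S hy)).eq

/-- Subgroups of `A` have complements. -/
theorem exists_compl (h : Ctx S A) {X : Subgroup G} (hX : X ≤ A) :
    ∃ Y ≤ A, Y ⊓ X = ⊥ ∧ Y ⊔ X = A := by
  obtain ⟨Y, ⟨hYA, hYX⟩, hmax⟩ := (Set.toFinite {Y : Subgroup G | Y ≤ A ∧ Y ⊓ X = ⊥}).exists_maximal
    ⟨⊥, bot_le, bot_inf_eq _⟩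
  refine ⟨Y, hYA, hYX, le_antisymm (sup_le hYA hX) fun a ha => ?_⟩
  by_contra hna
  have hn : zpowers a ≤ normalizer (Y : Set G) := zpowers_le.2
    (centralizer_le_normalizer (Y : Set G)
      (mem_centralizer_iff.2 fun y hy => comm_A h (hYA hy) ha))
  have hnew : (zpowers a ⊔ Y) ⊓ X = ⊥ := by
    refine (eq_bot_iff_forall _).2 fun x hx => ?_
    obtain ⟨y, hy, z, hz, rfl⟩ := (Coprime.mem_sup_iff hn).1 (by rw [sup_comm]; exact hx.1)
    obtain ⟨k, rfl⟩ := mem_zpowers_iff.1 hz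
    rcases Int.even_or_odd' k with ⟨m, rfl | rfl⟩
    · have h1 : a ^ (2 * m) = 1 := by rw [zpow_mul, zpow_ofNat, pow_two, h.sq ha, one_zpow]
      rw [h1, mul_one] at hx ⊢
      have : y ∈ Y ⊓ X := ⟨hy, hx.2⟩
      rwa [hYX, mem_bot] at this
    · have h1 : a ^ (2 * m + 1) = a := by
        rw [zpow_add, zpow_mul, zpow_ofNat, pow_two, h.sq ha, one_zpow, one_mul, zpow_one]
      rw [h1] at hx
      refine absurd ?_ hna
      have h2 : y⁻¹ * (y * a) ∈ Y ⊔ X :=
        Subgroup.mul_mem _ (mem_sup_left (Y.inv_mem hy)) (mem_sup_right hx.2)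
      rwa [inv_mul_cancel_left] at h2
  exact hna (mem_sup_left (hmax ⟨sup_le (zpowers_le.2 ha) hYA, hnew⟩ le_sup_right
    (mem_sup_left (mem_zpowers a))))

/-- An invariant subgroup of `A` has an invariant complement. -/
theorem exists_inv_compl (h : Ctx S A) {X : Subgroup G} (hX : X ≤ A)
    (hN : normalizer (A : Set G) ≤ normalizer (X : Set G)) :
    ∃ W ≤ A, W ⊓ X = ⊥ ∧ W ⊔ X = A ∧ normalizer (A : Set G) ≤ normalizer (W : Set G) := by
  classical
  obtain ⟨Y, hYA, hYX, hsup⟩ := exists_compl h hX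
  haveI : IsMulCommutative A := h.elem.1
  letI : CommGroup A := { (inferInstance : Group A) with mul_comm := IsMulCommutative.is_comm.comm }
  -- the projection to `X` along `Y`
  have hdec : ∀ a : A, ∃ x : A, (x : G) ∈ X ∧ (a : G) * (x : G)⁻¹ ∈ Y := by
    intro a
    obtain ⟨x, hx, y, hy, e⟩ := (Coprime.mem_sup_iff (H := Y) (N := X)
      (fun y hy => centralizer_le_normalizer (X : Set G)
        (mem_centralizer_iff.2 fun x hx => comm_A h (hX hx) (hYA hy)))).1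
        (show (a : G) ∈ X ⊔ Y by rw [sup_comm, hsup]; exact a.2)
    refine ⟨⟨x, hX hx⟩, hx, ?_⟩
    rw [← e, comm_A h (hX hx) (hYA hy), mul_inv_cancel_right]
    exact hy
  choose π hπX hπY using hdec
  have huniq : ∀ (a x : A), (x : G) ∈ X → (a : G) * (x : G)⁻¹ ∈ Y → π a = x := by
    intro a x hx hy
    have h1 : ((π a * x⁻¹ : A) : G) ∈ Y ⊓ X := by
      refine ⟨?_, ?_⟩
      · have h2 := Y.mul_mem (Y.inv_mem (hπY a)) hy
        rw [show ((a : G) * (π a : G)⁻¹)⁻¹ * ((a : G) * (x : G)⁻¹) = ((π a * x⁻¹ : A) : G) by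
          push_cast; group] at h2
        exact h2
      · push_cast
        exact X.mul_mem (hπX a) (X.inv_mem hx)
    rw [hYX, mem_bot] at h1
    exact mul_inv_eq_one.1 (Subtype.ext h1)
  have hπmul : ∀ a b : A, π (a * b) = π a * π b := fun a b => huniq _ _
    (by push_cast; exact X.mul_mem (hπX a) (hπX b)) (by
      have : ((a * b : A) : G) * ((π a * π b : A) : G)⁻¹ =
          ((a : G) * (π a : G)⁻¹) * ((b : G) * (π b : G)⁻¹) := by
        have e : (a * b) * (π a * π b)⁻¹ = (a * (π a)⁻¹) * (b * (π b)⁻¹) := by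
          rw [mul_inv, mul_mul_mul_comm]
        simpa using congrArg Subtype.val e
      rw [this]; exact Y.mul_mem (hπY a) (hπY b))
  -- the automizer and its action
  set N := normalizer (A : Set G) with hNdef
  set C := (centralizer (A : Set G)).subgroupOf N
  let act : N → A → A := fun n a => ⟨(n : G) * a * (n : G)⁻¹, (mem_normalizer_iff.1 n.2 a).1 a.2⟩
  let F : A → N ⧸ C → A := fun a r => act r.out (π (act r.out⁻¹ a))
  have hact : ∀ (n : N) (a b : A), act n (a * b) = act n a * act n b := fun n a b =>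
    Subtype.ext (by simp only [act]; push_cast; group)
  have hact2 : ∀ (n m : N) (a : A), act (n * m) a = act n (act m a) := fun n m a =>
    Subtype.ext (by simp only [act]; push_cast; group)
  have hCfix : ∀ c ∈ C, ∀ w : A, act c w = w := fun c hc w => Subtype.ext (by
    show (c : G) * (w : G) * (c : G)⁻¹ = w
    rw [← mem_centralizer_iff.1 (show (c : G) ∈ centralizer (A : Set G) from hc) w w.2,
      mul_inv_cancel_right])
  have hF : ∀ (a : A) (n : N), F a (n : N ⧸ C) = act n (π (act n⁻¹ a)) := by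
    intro a n
    obtain ⟨⟨c, hc⟩, e⟩ := QuotientGroup.mk_out_eq_mul C n
    show act (Quotient.out (n : N ⧸ C)) (π (act (Quotient.out (n : N ⧸ C))⁻¹ a)) = _
    rw [e]
    simp only
    rw [mul_inv_rev, hact2 c⁻¹, hCfix _ (C.inv_mem hc), hact2 n c, hCfix _ hc]
  haveI : Fintype (N ⧸ C) := Fintype.ofFinite _
  let τ : A →* A := MonoidHom.mk' (fun a => ∏ r : N ⧸ C, F a r) fun a b => by
    rw [← Finset.prod_mul_distrib]
    exact Finset.prod_congr rfl fun r _ => by simp only [F, hact, hπmul]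
  have hτX : ∀ a, (τ a : G) ∈ X := by
    intro a
    show ((∏ r : N ⧸ C, F a r : A) : G) ∈ X
    exact Finset.prod_induction (fun r => F a r) (fun w : A => (w : G) ∈ X)
      (fun u v hu hv => X.mul_mem hu hv) X.one_mem
      fun r _ => (mem_normalizer_iff.1 (hN (Quotient.out r).2) _).1 (hπX _)
  have hτfix : ∀ a : A, (a : G) ∈ X → τ a = a := by
    intro a ha
    have hterm : ∀ r : N ⧸ C, F a r = a := fun r => by
      have h1 : π (act r.out⁻¹ a) = act r.out⁻¹ a := huniq _ _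
        ((mem_normalizer_iff.1 (hN (r.out⁻¹ : N).2) _).1 ha)
        (by rw [mul_inv_cancel]; exact one_mem _)
      simp only [F, h1]
      rw [← hact2, mul_inv_cancel]
      exact Subtype.ext (by simp [act])
    show ∏ r : N ⧸ C, F a r = a
    rw [Finset.prod_congr rfl fun r _ => hterm r, Finset.prod_const, Finset.card_univ,
      ← Nat.card_eq_fintype_card, show Nat.card (N ⧸ C) = C.index from rfl]
    obtain ⟨k, hk⟩ := h.odd_index
    rw [hk, pow_succ, pow_mul]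
    rw [show a ^ 2 = 1 from Subtype.ext (by rw [pow_two]; exact h.sq a.2), one_pow, one_mul]
  have hτeq : ∀ (n : N) (a : A), τ (act n a) = act n (τ a) := by
    intro n a
    haveI : C.Normal := normal_subgroupOf_of_le_normalizer fun x hx => by
      refine mem_normalizer_iff.2 fun y => ?_
      simp only [mem_centralizer_iff]
      refine ⟨fun hy a ha => ?_, fun hy a ha => ?_⟩
      · have := congrArg (fun w => x * w * x⁻¹) (hy _ ((mem_normalizer_iff''.1 hx a).1 ha))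
        simpa [mul_assoc] using this
      · have := congrArg (fun w => x⁻¹ * w * x) (hy _ ((mem_normalizer_iff.1 hx a).1 ha))
        simpa [mul_assoc] using this
    let φ : A →* A := MonoidHom.mk' (act n) (hact n)
    show ∏ r : N ⧸ C, F (act n a) r = φ (∏ r : N ⧸ C, F a r)
    rw [map_prod]
    refine (Fintype.prod_equiv (Equiv.mulLeft (n : N ⧸ C)) _ _ fun r => ?_).symm
    obtain ⟨m, rfl⟩ := QuotientGroup.mk_surjective r
    show φ (F a (m : N ⧸ C)) = F (act n a) ((n : N ⧸ C) * (m : N ⧸ C))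
    rw [← QuotientGroup.mk_mul, hF, hF]
    show act n (act m (π (act m⁻¹ a))) = act (n * m) (π (act (n * m)⁻¹ (act n a)))
    rw [hact2, ← hact2 (n * m)⁻¹ n a, show (n * m)⁻¹ * n = m⁻¹ by group]
  refine ⟨τ.ker.map A.subtype, map_subtype_le _, ?_, ?_, ?_⟩
  · refine (eq_bot_iff_forall _).2 fun x hx => ?_
    obtain ⟨⟨a, ha, rfl⟩, hxX⟩ := hx
    rw [SetLike.mem_coe, MonoidHom.mem_ker, hτfix a hxX] at ha
    simp [ha]
  · refine le_antisymm (sup_le (map_subtype_le _) hX) fun a ha => ?_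
    set a' : A := ⟨a, ha⟩
    have h1 : a' * (τ a')⁻¹ ∈ τ.ker := by
      rw [MonoidHom.mem_ker, map_mul, map_inv, hτfix (τ a') (hτX a'), mul_inv_cancel]
    have h2 := Subgroup.mul_mem _ (mem_sup_left (T := X) (mem_map_of_mem A.subtype h1))
      (mem_sup_right (hτX a'))
    simpa [a'] using h2
  · intro n hn
    refine Coprime.mem_normalizer_of_map_conj (eq_of_le_of_card_ge ?_ (by rw [Coprime.card_map_conj]))
    rintro _ ⟨_, ⟨a, ha, rfl⟩, rfl⟩
    refine ⟨act ⟨n, hn⟩ a, ?_, rfl⟩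
    rw [SetLike.mem_coe, MonoidHom.mem_ker] at ha ⊢
    rw [hτeq, ha]
    exact Subtype.ext (by simp [act])

/-- An invariant subgroup of order 2 of `A` does not exist. -/
theorem card_ne_two (h : Ctx S A) {W : Subgroup G} (hW : W ≤ A)
    (hN : normalizer (A : Set G) ≤ normalizer (W : Set G)) : Nat.card W ≠ 2 := by
  intro h2
  obtain ⟨⟨w, hw⟩, hw1⟩ := (Nat.card_eq_two_iff' (1 : W)).1 h2 |>.exists
  refine hw1 (Subtype.ext (h.no_fixed (hW hw) fun n hn => ?_))
  have hm : n * w * n⁻¹ ∈ W := (mem_normalizer_iff.1 (hN hn) w).1 hw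
  have hne : (⟨n * w * n⁻¹, hm⟩ : W) ≠ 1 := fun e => hw1 (Subtype.ext (by
    have := congrArg Subtype.val e
    simpa [mul_inv_eq_one] using this))
  exact congrArg Subtype.val (((Nat.card_eq_two_iff' (1 : W)).1 h2).unique hne hw1)

/-- An invariant subgroup contains `V` or lies in `Q`. -/
theorem le_or_le {Q V X : Subgroup G} (hXA : X ≤ A) (hsup : V ⊔ Q = A)
    (hQn : Q ≤ centralizer (V : Set G)) (hV4 : 4 ≤ Nat.card V)
    {n : G} (hnX : n ∈ normalizer (X : Set G)) (hnQ : ∀ q ∈ Q, n * q * n⁻¹ = q)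
    (hnV : ∀ x ∈ V, n * x * n⁻¹ ∈ V)
    (ht : ∀ v ∈ V, ∀ w ∈ V, v ≠ 1 → w ≠ 1 → ∃ k : ℕ, n ^ k * v * (n ^ k)⁻¹ = w) :
    V ≤ X ∨ X ≤ Q := by
  by_cases hex : ∃ v ∈ V, v ≠ 1 ∧ v ∈ X
  · obtain ⟨v, hv, hv1, hvX⟩ := hex
    left
    intro w hw
    rcases eq_or_ne w 1 with rfl | hw1
    · exact one_mem _
    obtain ⟨k, rfl⟩ := ht v hv w hw hv1 hw1
    exact (mem_normalizer_iff.1 (pow_mem hnX k) v).1 hvX
  right
  intro x hx
  obtain ⟨v, hv, q, hq, rfl⟩ := (Coprime.mem_sup_iff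
    (hQn.trans (centralizer_le_normalizer (V : Set G)))).1 (hsup.ge (hXA hx))
  suffices hv1 : v = 1 by rwa [hv1, one_mul]
  have hfix : n * v * n⁻¹ = v := by
    have h1 : n * (v * q) * n⁻¹ * (v * q)⁻¹ ∈ X :=
      X.mul_mem ((mem_normalizer_iff.1 hnX _).1 hx) (X.inv_mem hx)
    rw [show n * (v * q) * n⁻¹ = n * v * n⁻¹ * (n * q * n⁻¹) by group, hnQ q hq, mul_inv_rev,
      ← mul_assoc, mul_inv_cancel_right] at h1
    by_contra hne
    exact hex ⟨_, V.mul_mem (hnV v hv) (V.inv_mem hv), fun e => hne (mul_inv_eq_one.1 e), h1⟩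
  by_contra hv1
  obtain ⟨w, hw, hw1, hwv⟩ : ∃ w ∈ V, w ≠ 1 ∧ w ≠ v := by
    by_contra! hc
    have hle : (V : Set G) ⊆ {1, v} := fun w hw => by
      rcases eq_or_ne w 1 with rfl | hw1
      · exact Or.inl rfl
      · exact Or.inr (hc w hw hw1)
    have := (Nat.card_mono (Set.toFinite _) hle).trans (le_of_eq (Set.ncard_pair (Ne.symm hv1)) :
      Nat.card ({1, v} : Set G) ≤ 2)
    simp only [SetLike.coe_sort_coe] at this
    omega
  obtain ⟨k, hk⟩ := ht v hv w hw hv1 hw1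
  refine hwv (hk.symm.trans ?_)
  clear hk
  induction k with
  | zero => simp
  | succ k ih =>
    rw [pow_succ', show n * n ^ k * v * (n * n ^ k)⁻¹ = n * (n ^ k * v * (n ^ k)⁻¹) * n⁻¹ by group,
      ih, hfix]

/-- The invariant pair. -/
theorem pair (h : Ctx S A) (hred : RedHyp.{u}) {Q V : Subgroup G} (hQA : Q ≤ A) (hVA : V ≤ A)
    (hdisj : V ⊓ Q = ⊥) (hsup : V ⊔ Q = A) (hQ : Q ≠ ⊥) (hQ4 : Nat.card Q ≤ 4)
    (hQV : Nat.card Q ≤ Nat.card V) (hV4 : 4 ≤ Nat.card V)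
    (hn : ∃ n ∈ normalizer (A : Set G), (∀ q ∈ Q, n * q * n⁻¹ = q) ∧
      (∀ x ∈ V, n * x * n⁻¹ ∈ V) ∧
      ∀ v ∈ V, ∀ w ∈ V, v ≠ 1 → w ≠ 1 → ∃ k : ℕ, n ^ k * v * (n ^ k)⁻¹ = w) :
    Nat.card Q = 4 ∧ normalizer (A : Set G) ≤ normalizer (V : Set G) ∧
      normalizer (A : Set G) ≤ normalizer (Q : Set G) := by
  obtain ⟨X, hXA, hX1, hXne, hXN⟩ := hred G A Q V h.elem h.large (fun n hn => h.exists_odd_pow hn)
    hQA hVA hdisj hsup hQ hQV hn
  obtain ⟨W, hWA, hWX, hWsup, hWN⟩ := exists_inv_compl h hXA hXN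
  obtain ⟨n, hnA, hnQ, hnV, ht⟩ := hn
  have hQn : Q ≤ centralizer (V : Set G) := fun q hq =>
    mem_centralizer_iff.2 fun v hv => comm_A h (hVA hv) (hQA hq)
  have hW1 : W ≠ ⊥ := fun e => hXne (by rw [← hWsup, e, bot_sup_eq])
  have hV1 : V ≠ ⊥ := fun e => by rw [e, Subgroup.card_bot] at hV4; omega
  -- one of them contains `V`, the other lies in `Q`
  suffices key : ∀ Y Z : Subgroup G, Z ≤ A → Y ⊓ Z = ⊥ → Z ≠ ⊥ →
      normalizer (A : Set G) ≤ normalizer (Y : Set G) →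
      normalizer (A : Set G) ≤ normalizer (Z : Set G) → Y ≤ A → V ≤ Y → Z ≤ Q →
      Nat.card Q = 4 ∧ normalizer (A : Set G) ≤ normalizer (V : Set G) ∧
        normalizer (A : Set G) ≤ normalizer (Q : Set G) by
    rcases le_or_le hXA hsup hQn hV4 (hXN hnA) hnQ hnV ht with hVX | hXQ
    · rcases le_or_le hWA hsup hQn hV4 (hWN hnA) hnQ hnV ht with hVW | hWQ
      · exact absurd (le_bot_iff.1 ((le_inf hVW hVX).trans hWX.le)) hV1
      · exact key X W hWA (by rw [inf_comm, hWX]) hW1 hXN hWN hXA hVX hWQ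
    · rcases le_or_le hWA hsup hQn hV4 (hWN hnA) hnQ hnV ht with hVW | hWQ
      · exact key W X hXA hWX hX1 hWN hXN hWA hVW hXQ
      · exact absurd (le_bot_iff.1 ((le_inf le_rfl
          (hVA.trans (hWsup.ge.trans (sup_le hWQ hXQ)))).trans hdisj.le)) hV1
  intro Y Z hZA hYZ hZ1 hYN hZN hYA hVY hZQ
  have hp : ∀ {R : Subgroup G}, R ≤ A → ∃ i, Nat.card R = 2 ^ i := fun hR =>
    IsPGroup.iff_card.1 (h.isPGroup.to_le hR)
  obtain ⟨i, hi⟩ := hp hZA
  have hi2 : 2 ≤ i := by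
    by_contra hlt
    rcases Nat.lt_succ_iff.1 (not_le.1 hlt) |>.lt_or_eq with h0 | h0
    · obtain rfl : i = 0 := by omega
      exact hZ1 (card_eq_one.1 hi)
    · rw [h0, pow_one] at hi
      exact card_ne_two h hZA hZN hi
  have hZ4 : 4 ≤ Nat.card Z := hi ▸ (Nat.pow_le_pow_right (by norm_num) hi2 : 2 ^ 2 ≤ 2 ^ i)
  have hZQ' : Z = Q := eq_of_le_of_card_ge hZQ (hQ4.trans hZ4)
  subst hZQ'
  have hYV : Y = V := by
    refine le_antisymm (fun y hy => ?_) hVY
    obtain ⟨v, hv, q, hq, rfl⟩ := (Coprime.mem_sup_iff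
      (hQn.trans (centralizer_le_normalizer (V : Set G)))).1 (hsup.ge (hYA hy))
    have h1 : v⁻¹ * (v * q) ∈ Y ⊓ Z :=
      ⟨Y.mul_mem (Y.inv_mem (hVY hv)) hy, by rwa [inv_mul_cancel_left]⟩
    rw [hYZ, mem_bot, inv_mul_cancel_left] at h1
    rwa [h1, mul_one]
  exact ⟨le_antisymm hQ4 hZ4, hYV ▸ hYN, hZN⟩

end Cfsg.Agent.H21.Walter
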