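import Cfsg.Agent.H88.Walter.Act
import Cfsg.Agent.H21.Walter.Pair
import Cfsg.Agent.Signalizer.Corollaries
import Cfsg.Agent.Signalizer.Main
import Cfsg.Agent.Fusion.SignalizerTrivial

/-!
# Generation by the normalizers of large subgroups of `A`

Either all cores of involution centralizers are trivial, or no proper subgroup contains `N(A)` and
the normalizers of all subgroups of order 8 of `A`.
-/

set_option autoImplicit false
set_option linter.unusedSectionVars false
set_option linter.style.haveILetI false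

namespace Cfsg.Agent.H21.Walter

open Subgroup Cfsg.Agent
open Cfsg.Agent.H88.Walter (Ctx ShapeData RedHyp Bb pre cen vp qp core mem_pre invSet Unbal)

universe u

variable {G : Type u} [Group G] [Finite G] {S : Sylow 2 G} {A : Subgroup G}

local instance factTwoGen : Fact (Nat.Prime 2) := ⟨Nat.prime_two⟩

/-- The relations in a dihedral group with central involution. -/
theorem dihedral_cases {x c : G} (hx : orderOf x = 2) (hc : orderOf c = 2)
    (he : Even (orderOf (c * x))) :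
    ∃ z : G, orderOf z = 2 ∧ Commute z x ∧ Commute z c ∧
      (IsConj (z * x) c ∨ (IsConj (z * x) x ∧ IsConj (z * c) c)) := by
  obtain ⟨l, hl⟩ := he
  have hpos := orderOf_pos (c * x)
  set d := c * x with hd
  have hinv : x * d * x⁻¹ = d⁻¹ := H39.conj_mul_involutions hx hc
  have hdx : d * x = c := by rw [hd, mul_assoc, H39.mul_self_of_orderOf_eq_two hx, mul_one]
  have hz : orderOf (d ^ l) = 2 := by
    rw [orderOf_pow_of_dvd (by omega) (hl ▸ ⟨2, by ring⟩), hl]
    exact Nat.div_eq_of_eq_mul_left (by omega) (by ring)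
  have hzx : Commute (d ^ l) x := by
    have h1 : x * d ^ l * x⁻¹ = d ^ l := by
      rw [← conj_pow, hinv, inv_pow, H39.inv_eq_of_orderOf_eq_two hz]
    exact (mul_inv_eq_iff_eq_mul.1 h1).symm
  have hzc : Commute (d ^ l) c := hdx ▸ ((Commute.refl d).pow_left l).mul_right hzx
  refine ⟨d ^ l, hz, hzx, hzc, ?_⟩
  have key : ∀ i m : ℤ, IsConj (d ^ m * x) (d ^ (m + 2 * i) * x) := fun i m =>
    isConj_iff.2 ⟨d ^ i, H39.zpow_conj_mul hinv i m⟩
  rcases Nat.even_or_odd l with ⟨j, hj⟩ | ⟨j, hj⟩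
  · refine Or.inr ⟨?_, ?_⟩
    · have h1 := key j 0
      rw [zpow_zero, one_mul, show (0 : ℤ) + 2 * j = ((l : ℕ) : ℤ) by rw [hj]; push_cast; ring,
        zpow_natCast] at h1
      exact h1.symm
    · have h1 := key j 1
      rw [zpow_one, hdx, show (1 : ℤ) + 2 * j = ((l + 1 : ℕ) : ℤ) by rw [hj]; push_cast; ring,
        zpow_natCast, pow_succ, mul_assoc, hdx] at h1
      exact h1.symm
  · refine Or.inl ?_
    have h1 := key j 1
    rw [zpow_one, hdx, show (1 : ℤ) + 2 * j = ((l : ℕ) : ℤ) by rw [hj]; push_cast; ring,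
      zpow_natCast] at h1
    exact h1.symm

theorem card_pow (h : Ctx S A) {R : Subgroup G} (hR : R ≤ A) : ∃ i, Nat.card R = 2 ^ i :=
  IsPGroup.iff_card.1 (h.isPGroup.to_le hR)

theorem le_four_of_lt (h : Ctx S A) {R : Subgroup G} (hR : R ≤ A) (h8 : Nat.card R < 8) :
    Nat.card R ≤ 4 := by
  obtain ⟨i, hi⟩ := card_pow h hR
  rw [hi] at h8 ⊢
  rw [show (8 : ℕ) = 2 ^ 3 by norm_num, Nat.pow_lt_pow_iff_right (by norm_num)] at h8
  exact (Nat.pow_le_pow_right (by norm_num) (Nat.lt_succ_iff.1 h8)).trans_eq (by norm_num)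

/-! ### Covering -/

theorem mem_coreImage_of_cent (h : Ctx S A) {b : G} (hb : b ∈ A) {E : Subgroup G} (hE : E ≤ A)
    {y : Bb b} (hy : y ∈ centralizer (coreImage b E : Set (Bb b))) :
    y ∈ coreImage b (centralizer (E : Set G)) := by
  have hEp : IsPGroup 2 ↥(E.subgroupOf (centralizer ({b} : Set G))) :=
    (h.isPGroup.to_le hE).comap_subtype
  rw [coreImage, coreProj, ← Cores.map_centralizer_of_coprime _
    ((Nat.prime_two.coprime_iff_not_dvd.2 Cores.not_dvd_card_pPrimeCore).symm) hEp] at hy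
  obtain ⟨g, hg, rfl⟩ := hy
  exact mem_map_of_mem _ (show g ∈ (centralizer (E : Set G)).subgroupOf _ from
    mem_centralizer_iff.2 fun x hx =>
      congrArg Subtype.val (mem_centralizer_iff.1 hg ⟨x, h.le_cent hb (hE hx)⟩ hx))

theorem coreImage_mono (b : G) {H H' : Subgroup G} (hle : H ≤ H') :
    coreImage b H ≤ coreImage b H' :=
  map_mono (comap_mono hle)

/-- A component centralized by a large enough part of `A` is covered. -/
theorem covered_of_qp (h : Ctx S A) {b : G} (hb : b ∈ A) {K : Subgroup (Bb b)} {M : Subgroup G}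
    (hM : centralizer (qp A b K : Set G) ≤ M) : K ≤ coreImage b M := by
  refine fun y hy => coreImage_mono b hM (mem_coreImage_of_cent h hb inf_le_left
    (mem_centralizer_iff.2 ?_))
  rintro _ ⟨⟨a, hab⟩, ha, rfl⟩
  obtain ⟨_, hc⟩ := mem_pre.1 (show a ∈ cen b K from ha.2)
  exact (mem_centralizer_iff.1 hc y hy).symm

/-- An unbalanced component with `|qp| = 4` is covered. -/
theorem covered_of_unbal (h : Ctx S A) (hd : ShapeData.{u}) {b : G} (hb : b ∈ A) (hb1 : b ≠ 1)
    {K : Subgroup (Bb b)} (hK : Cfsg.IsComponent K) {M : Subgroup G}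
    (hN : normalizer (A : Set G) ≤ M)
    (hC : ∀ E : Subgroup G, E ≤ A → 8 ≤ Nat.card E → centralizer (E : Set G) ≤ M)
    (hq : Nat.card (qp A b K) = 4) {P : Sylow 2 K}
    (hP : (P : Subgroup K) = ((h.sylowBar hb : Subgroup (Bb b)) ⊓ K).subgroupOf K)
    (hu : Unbal (P : Subgroup K)) : K ≤ coreImage b M := by
  suffices key : closure ((P : Set K) ∪ invSet (P : Subgroup K)) ≤
      (coreImage b M).comap K.subtype by
    rw [show closure ((P : Set K) ∪ invSet (P : Subgroup K)) = ⊤ from hu.2] at key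
    exact fun y hy => key (mem_top (⟨y, hy⟩ : K))
  refine (closure_le _).2 fun y hy => ?_
  rcases hy with hy | ⟨-, v, hv, hv1, hyv, -⟩
  · replace hy : y ∈ (P : Subgroup K) := hy
    rw [hP] at hy
    obtain ⟨v, hvb, hvp, e⟩ := h.exists_vp_of_mem hd hb hb1 hK hy
    change K.subtype y ∈ coreImage b M
    rw [← e]
    exact mem_map_of_mem _ (show (⟨v, hvb⟩ : ↥(centralizer ({b} : Set G))) ∈ M.subgroupOf _ from
      hN (le_normalizer hvp.1))
  rw [hP] at hv
  obtain ⟨v', hvb, hvp, e⟩ := h.exists_vp_of_mem hd hb hb1 hK hv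
  set E := qp A b K ⊔ zpowers v' with hE
  have hEA : E ≤ A := sup_le inf_le_left (zpowers_le.2 hvp.1)
  have hv'q : v' ∉ qp A b K := fun hq' => by
    have : v' ∈ vp A b K ⊓ qp A b K := ⟨hvp, hq'⟩
    rw [h.vp_inf_qp hd hb hK, mem_bot] at this
    subst this
    refine hv1 (Subtype.ext (e.symm.trans ?_))
    exact map_one (coreProj b)
  have hE8 : 8 ≤ Nat.card E := by
    by_contra hlt
    exact hv'q ((eq_of_le_of_card_ge (le_sup_left : qp A b K ≤ E)
      ((le_four_of_lt h hEA (not_le.1 hlt)).trans hq.ge)).ge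
        (mem_sup_right (mem_zpowers v')))
  refine (show (y : Bb b) ∈ coreImage b M from
    coreImage_mono b (hC E hEA hE8) (mem_coreImage_of_cent h hb hEA ?_))
  refine mem_centralizer_iff.2 ?_
  rintro _ ⟨⟨a, hab⟩, ha, rfl⟩
  have hle : E ≤ ((centralizer ({(y : Bb b)} : Set (Bb b))).comap (coreProj b)).map
      (centralizer ({b} : Set G)).subtype := by
    refine sup_le (fun q hq' => ?_) (zpowers_le.2 ⟨⟨v', hvb⟩, ?_, rfl⟩)
    · obtain ⟨hqb, hc⟩ := mem_pre.1 (show q ∈ cen b K from hq'.2)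
      exact ⟨⟨q, hqb⟩, mem_centralizer_singleton_iff.2
        (mem_centralizer_iff.1 hc y y.2).symm, rfl⟩
    · refine mem_centralizer_singleton_iff.2 ?_
      rw [e]
      exact congrArg Subtype.val hyv.eq.symm
  obtain ⟨a', ha', e'⟩ := hle ha
  obtain rfl : a' = ⟨a, hab⟩ := Subtype.ext e'
  exact mem_centralizer_singleton_iff.1 ha'

/-- A subgroup covering all components of `C(b)` and containing `N(A)` contains `C(b)`. -/
theorem centralizer_le_of_covered (h : Ctx S A) {b : G} (hb : b ∈ A) {M : Subgroup G}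
    (hN : normalizer (A : Set G) ≤ M)
    (hC : ∀ E : Subgroup G, E ≤ A → 8 ≤ Nat.card E → centralizer (E : Set G) ≤ M)
    (hK : ∀ K : Subgroup (Bb b), Cfsg.IsComponent K → K ≤ coreImage b M) :
    centralizer ({b} : Set G) ≤ M := by
  have hSM : (S : Subgroup G) ≤ M :=
    h.S_le_centralizer.trans ((centralizer_le_normalizer _).trans hN)
  have hcoreM : core b ≤ M := by
    haveI : IsMulCommutative A := h.elem.1
    refine Coprime.le_of_centralizer_cyclic_quotient_le
      ((h.le_cent hb).trans (H88.Walter.core_normal b)) ?_ fun B hB hBh => ?_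
    · obtain ⟨i, hi⟩ := card_pow h (le_refl A)
      rw [hi]
      exact Nat.Coprime.pow_left _ (Nat.coprime_two_left.2 (H88.Walter.core_odd b))
    · refine inf_le_right.trans (hC B hB ?_)
      have h1 := hyper_card (p := 2) h.elem hB hBh
      have := h.large
      omega
  have hT : (h.sylowBar hb : Subgroup (Bb b)) ≤ coreImage b M := by
    intro y hy
    obtain ⟨s, hs, hsS, rfl⟩ := (h.mem_sylowBar hb).1 hy
    exact mem_map_of_mem _ (show (⟨s, hs⟩ : ↥(centralizer ({b} : Set G))) ∈ M.subgroupOf _ from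
      hSM hsS)
  have hF : Cfsg.generalizedFittingSubgroup (Bb b) ≤ coreImage b M :=
    sup_le (sSup_le fun L hL => hK L hL)
      (((Components.fitting_le_pCore (p := 2) (h.oddCore_Bb hb)).trans
        (Cores.pCore_le_sylow _)).trans hT)
  have hTF := H10.Walter.sylow_le_genFitting (h.absyl_Bb hb) (h.oddCore_Bb hb) (h.sylowBar hb)
  have htop := Sylow.normalizer_sup_eq_top' (h.sylowBar hb) hTF
  have hNT : normalizer ((h.sylowBar hb : Subgroup (Bb b)) : Set (Bb b)) ≤ coreImage b M := by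
    have hSp : IsPGroup 2 ↥((S : Subgroup G).subgroupOf (centralizer ({b} : Set G))) :=
      S.isPGroup'.comap_subtype
    rw [show (h.sylowBar hb : Subgroup (Bb b)) = ((S : Subgroup G).subgroupOf
      (centralizer ({b} : Set G))).map (QuotientGroup.mk' _) from rfl,
      ← Components.map_normalizer_of_coprime _ Cores.coprime_card_pPrimeCore hSp]
    refine map_mono fun g hg => ?_
    refine hN (h.normalizer_le (Coprime.mem_normalizer_of_map_conj
      (eq_of_le_of_card_ge ?_ (by rw [Coprime.card_map_conj]))))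
    rintro _ ⟨x, hx, rfl⟩
    exact (mem_normalizer_iff.1 hg ⟨x, h.S_le_cent hb hx⟩).1 hx
  have hall : (⊤ : Subgroup (Bb b)) ≤ coreImage b M := htop ▸ sup_le hNT hF
  intro x hx
  obtain ⟨⟨m, hmb⟩, hm, e⟩ := hall (mem_top (coreProj b ⟨x, hx⟩))
  have h1 : coreProj b (⟨m, hmb⟩⁻¹ * ⟨x, hx⟩) = 1 := by rw [map_mul, map_inv, e, inv_mul_cancel]
  have h2 := hcoreM (coreProj_eq_one_iff.1 h1)
  simpa using M.mul_mem (show m ∈ M from hm) h2

/-! ### The pairs of the components -/

/-- The properties of the pair of a component with a small centralizer in `A`. -/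
structure IsPair (A Q V : Subgroup G) : Prop where
  Q_le : Q ≤ A
  V_le : V ≤ A
  disj : V ⊓ Q = ⊥
  sup : V ⊔ Q = A
  card_Q : Nat.card Q = 4
  four : 4 ≤ Nat.card V
  card_mul : Nat.card V * Nat.card Q = Nat.card A
  norm_V : normalizer (A : Set G) ≤ normalizer (V : Set G)
  norm_Q : normalizer (A : Set G) ≤ normalizer (Q : Set G)
  cyc : ∃ n ∈ normalizer (A : Set G), (∀ q ∈ Q, n * q * n⁻¹ = q) ∧
    (∀ x ∈ V, n * x * n⁻¹ ∈ V) ∧
    ∀ v ∈ V, ∀ w ∈ V, v ≠ 1 → w ≠ 1 → ∃ k : ℕ, n ^ k * v * (n ^ k)⁻¹ = w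

theorem isPair_of_comp (h : Ctx S A) (hd : ShapeData.{u}) (hred : RedHyp.{u}) {b : G} (hb : b ∈ A)
    (hb1 : b ≠ 1) {K : Subgroup (Bb b)} (hK : Cfsg.IsComponent K)
    (hq : Nat.card (qp A b K) ≤ 4) : IsPair A (qp A b K) (vp A b K) := by
  have hsup : vp A b K ⊔ qp A b K = A := le_antisymm (sup_le inf_le_left inf_le_left) fun a ha => by
    obtain ⟨v, hv, q, hq, rfl⟩ := h.exists_decomp hd hb hb1 hK ha
    exact Subgroup.mul_mem _ (mem_sup_left hv) (mem_sup_right hq)
  have hne : qp A b K ≠ ⊥ := fun e => hb1 (by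
    have := h.self_mem_qp hd hb hb1 hK
    rwa [e, mem_bot] at this)
  have hv4 := h.four_le_vp hd hb hb1 hK
  obtain ⟨n, hn, hnq, hnv, ht⟩ := h.exists_cyc hd hb hb1 hK
  obtain ⟨h4, hNV, hNQ⟩ := pair h hred (Q := qp A b K) (V := vp A b K) inf_le_left inf_le_left
    (h.vp_inf_qp hd hb hK) hsup hne hq (hq.trans hv4) hv4 ⟨n, hn.1, hnq, hnv, ht⟩
  exact ⟨inf_le_left, inf_le_left, h.vp_inf_qp hd hb hK, hsup, h4, hv4,
    h.card_mul hd hb hb1 hK, hNV, hNQ, ⟨n, hn.1, hnq, hnv, ht⟩⟩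

/-- There is at most one pair, up to order. -/
theorem IsPair.unique (h : Ctx S A) {Q V Q' V' : Subgroup G} (P : IsPair A Q V)
    (P' : IsPair A Q' V') : (Q' = Q ∧ V' = V) ∨ (Q' = V ∧ V' = Q) := by
  obtain ⟨n, hnA, hnQ, hnV, ht⟩ := P.cyc
  have hQn : Q ≤ centralizer (V : Set G) := fun q hq =>
    mem_centralizer_iff.2 fun v hv => comm_A h (P.V_le hv) (P.Q_le hq)
  have hcases : ∀ {X : Subgroup G}, X ≤ A → normalizer (A : Set G) ≤ normalizer (X : Set G) →
      V ≤ X ∨ X ≤ Q := fun hX hXN => le_or_le hX P.sup hQn P.four (hXN hnA) hnQ hnV ht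
  have hV1 : V' ≠ ⊥ := fun e => by
    have := P'.four
    rw [e, Subgroup.card_bot] at this
    omega
  rcases hcases P'.Q_le P'.norm_Q with hVQ | hQQ
  · have e1 : V = Q' := eq_of_le_of_card_ge hVQ (P'.card_Q ▸ P.four)
    refine Or.inr ⟨e1.symm, ?_⟩
    rcases hcases P'.V_le P'.norm_V with hVV | hVQ'
    · exfalso
      have h1 : V ≤ ⊥ := (le_inf hVV hVQ).trans P'.disj.le
      have := P.four
      rw [le_bot_iff.1 h1, Subgroup.card_bot] at this
      omega
    · exact eq_of_le_of_card_ge hVQ' (P.card_Q ▸ P'.four)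
  · have e1 : Q' = Q := eq_of_le_of_card_ge hQQ (by rw [P.card_Q, P'.card_Q])
    refine Or.inl ⟨e1, ?_⟩
    rcases hcases P'.V_le P'.norm_V with hVV | hVQ'
    · refine (eq_of_le_of_card_ge hVV (le_of_eq ?_)).symm
      have h1 := P.card_mul.trans P'.card_mul.symm
      rw [P.card_Q, P'.card_Q] at h1
      omega
    · exact absurd (le_bot_iff.1 ((le_inf le_rfl (hVQ'.trans e1.ge)).trans P'.disj.le)) hV1

/-- Conjugates in `A` of elements of an invariant subgroup stay in it. -/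
theorem mem_of_fused (h : Ctx S A) {X : Subgroup G} (hX : X ≤ A)
    (hN : normalizer (A : Set G) ≤ normalizer (X : Set G)) {a b : G} (ha : a ∈ X) (hb : b ∈ A)
    (hab : IsConj a b) : b ∈ X := by
  obtain ⟨g, hg⟩ := isConj_iff.1 hab
  obtain ⟨n, hn, e⟩ := h.fusion (hX ha) hb hg
  exact e ▸ (mem_normalizer_iff.1 (hN hn) a).1 ha

theorem exists_conj_into (h : Ctx S A) {a z : G} (ha : a ∈ A) (hz : orderOf z = 2)
    (hc : Commute z a) : ∃ k ∈ centralizer ({a} : Set G), k * z * k⁻¹ ∈ A := by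
  have hzc : zpowers z ≤ centralizer ({a} : Set G) :=
    zpowers_le.2 (mem_centralizer_singleton_iff.2 hc.eq)
  obtain ⟨k, hk, hks⟩ := H39.exists_conj_mem_le_sylow
    (IsPGroup.of_card (n := 1) (by rw [Nat.card_zpowers, hz, pow_one]) : IsPGroup 2 ↥(zpowers z))
    hzc S (h.S_le_cent ha)
  refine ⟨k, hk, (h.mem_iff _).2 ⟨hks z (mem_zpowers z), ?_⟩⟩
  rw [show k * z * k⁻¹ * (k * z * k⁻¹) = k * (z * z) * k⁻¹ by group,
    H39.mul_self_of_orderOf_eq_two hz, mul_one, mul_inv_cancel]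

/-- A good involution on one side of the pair absorbs the other side. -/
theorem key (h : Ctx S A) {Q V M : Subgroup G} (hQA : Q ≤ A) (hVA : V ≤ A) (hdisj : V ⊓ Q = ⊥)
    (hQN : normalizer (A : Set G) ≤ normalizer (Q : Set G))
    (hVN : normalizer (A : Set G) ≤ normalizer (V : Set G))
    (hmix : ∀ a ∈ A, a ∉ Q → a ∉ V → centralizer ({a} : Set G) ≤ M)
    {x c : G} (hx : x ∈ V) (hx1 : x ≠ 1) (hxM : centralizer ({x} : Set G) ≤ M) (hc : c ∈ Q)
    (hc1 : c ≠ 1) : M = ⊤ := by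
  haveI := h.cfg.simple
  have hxo := h.orderOf_eq (hVA hx) hx1
  have hco := h.orderOf_eq (hQA hc) hc1
  have hdis : ∀ {y : G}, y ∈ V → y ∈ Q → y = 1 := fun hy hy' => by
    have : _ ∈ V ⊓ Q := ⟨hy, hy'⟩
    rwa [hdisj, mem_bot] at this
  have hconj : ∀ g : G, g * c * g⁻¹ ∈ M := by
    intro g
    set c' := g * c * g⁻¹ with hc'
    have hcc' : IsConj c c' := isConj_iff.2 ⟨g, rfl⟩
    have hco' : orderOf c' = 2 := by rw [hc', H39.orderOf_conj, hco]
    have hne : ¬ IsConj c x := fun e => hx1 (hdis hx (mem_of_fused h hQA hQN hc (hVA hx) e))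
    have heven : Even (orderOf (c' * x)) := by
      rw [← Nat.not_odd_iff_even]
      exact fun ho => hne (hcc'.trans (H26.isConj_of_odd (H39.mul_self_of_orderOf_eq_two hco')
        (H39.mul_self_of_orderOf_eq_two hxo) ho))
    obtain ⟨z, hz, hzx, hzc, hcases⟩ := dihedral_cases hxo hco' heven
    obtain ⟨k, hk, hz₁⟩ := exists_conj_into h (hVA hx) hz hzx
    set z₁ := k * z * k⁻¹ with hz₁def
    have hkx : k * x * k⁻¹ = x := by
      rw [mem_centralizer_singleton_iff.1 hk, mul_inv_cancel_right]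
    by_cases hgood : z₁ ∉ Q ∧ z₁ ∉ V
    · have hC := hmix z₁ hz₁ hgood.1 hgood.2
      have h1 : k * c' * k⁻¹ ∈ M := hC (mem_centralizer_singleton_iff.2 (by
        rw [show k * c' * k⁻¹ * z₁ = k * (c' * z) * k⁻¹ by rw [hz₁def]; group, ← hzc.eq, hz₁def]
        group))
      simpa [mul_assoc] using M.mul_mem (M.mul_mem (M.inv_mem (hxM hk)) h1) (hxM hk)
    have hside : z₁ ∈ Q ∨ z₁ ∈ V := by tauto
    -- `z * x` is conjugate to `c`, or to `x` and `z * c'` to `c`
    have hzx1 : IsConj (z * x) (z₁ * x) := isConj_iff.2 ⟨k, by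
      nth_rewrite 2 [← hkx]; rw [hz₁def]; group⟩
    have hzxA : z₁ * x ∈ A := A.mul_mem hz₁ (hVA hx)
    have hz₁1 : z₁ ≠ 1 := fun e => by
      rw [hz₁def, mul_inv_eq_one, mul_eq_left] at e
      rw [e, orderOf_one] at hz
      omega
    exfalso
    rcases hcases with hA' | ⟨hB1, hB2⟩
    · have hmem : z₁ * x ∈ Q := mem_of_fused h hQA hQN hc hzxA
        ((hcc'.trans hA'.symm).trans hzx1)
      rcases hside with hs | hs
      · have hxQ : x ∈ Q := by simpa using Q.mul_mem (Q.inv_mem hs) hmem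
        exact hx1 (hdis hx hxQ)
      · have h1 : z₁ * x = 1 := hdis (V.mul_mem hs hx) hmem
        have h2 : z * x = 1 := by
          obtain ⟨j, hj⟩ := isConj_iff.1 hzx1
          rw [h1] at hj
          exact conj_eq_one_iff.1 hj
        have h3 := hA'
        rw [h2, isConj_one_right] at h3
        rw [h3, orderOf_one] at hco'
        omega
    · have hmem : z₁ * x ∈ V := mem_of_fused h hVA hVN hx hzxA (hB1.symm.trans hzx1)
      have hz₁V : z₁ ∈ V := by simpa using V.mul_mem hmem (V.inv_mem hx)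
      -- the same at `c`
      set z' := g⁻¹ * z * g with hz'
      have hz'o : orderOf z' = 2 := by
        rw [hz', show g⁻¹ * z * g = g⁻¹ * z * g⁻¹⁻¹ by rw [inv_inv], H39.orderOf_conj, hz]
      have hz'c : Commute z' c := by
        have := (hzc.map (MulAut.conj g⁻¹).toMonoidHom)
        simpa [hz', hc', mul_assoc] using this
      obtain ⟨j, hj, hz₂⟩ := exists_conj_into h (hQA hc) hz'o hz'c
      have hjc : j * c * j⁻¹ = c := by
        rw [mem_centralizer_singleton_iff.1 hj, mul_inv_cancel_right]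
      have hzc2 : IsConj (z * c') (j * z' * j⁻¹ * c) := isConj_iff.2 ⟨j * g⁻¹, by
        rw [show j * g⁻¹ * (z * c') * (j * g⁻¹)⁻¹ = j * (g⁻¹ * z * g) * j⁻¹ * (j * c * j⁻¹) by
          rw [hc']; group, hjc, hz']⟩
      have hmem2 : j * z' * j⁻¹ * c ∈ Q := mem_of_fused h hQA hQN hc (A.mul_mem hz₂ (hQA hc))
        ((hcc'.trans hB2.symm).trans hzc2)
      have hz₂Q : j * z' * j⁻¹ ∈ Q := by simpa using Q.mul_mem hmem2 (Q.inv_mem hc)
      have hfus : IsConj z₁ (j * z' * j⁻¹) := isConj_iff.2 ⟨j * g⁻¹ * k⁻¹, by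
        rw [hz₁def, hz']; group⟩
      have := hdis (mem_of_fused h hVA hVN hz₁V hz₂ hfus) hz₂Q
      rw [mul_inv_eq_one, mul_eq_left] at this
      rw [this, orderOf_one] at hz'o
      omega
  have hle : normalClosure ({c} : Set G) ≤ M := by
    refine (closure_le _).2 ?_
    intro y hy
    obtain ⟨a, ha, hya⟩ := Group.mem_conjugatesOfSet_iff.1 hy
    rw [Set.mem_singleton_iff.1 ha] at hya
    obtain ⟨g, rfl⟩ := isConj_iff.1 hya
    exact hconj g
  rcases (normalClosure_normal (s := ({c} : Set G))).eq_bot_or_eq_top with e | e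
  · exfalso
    have h1 : c ∈ normalClosure ({c} : Set G) := subset_normalClosure rfl
    rw [e, mem_bot] at h1
    exact hc1 h1
  · exact top_le_iff.1 (e ▸ hle)

/-! ### The two sides balanced -/

/-- If every component has a small centralizer in `A` and is balanced, the cores are trivial. -/
theorem coresTrivial_of_balanced (h : Ctx S A) (hd : ShapeData.{u})
    (hall : ∀ b ∈ A, b ≠ 1 → ∀ K : Subgroup (Bb b), Cfsg.IsComponent K → ∀ hb : b ∈ A,
      4 ≤ Nat.card (qp A b K) ∧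
        ∀ x ∈ ((h.sylowBar hb : Subgroup (Bb b)) ⊓ K).subgroupOf K, x ≠ 1 → OddTrivialAt x) :
    H10.Walter.CoresTrivial G := by
  haveI := h.cfg.simple
  have hA3 : 2 ^ 3 ≤ Nat.card A := le_trans (by norm_num) h.large
  -- the functor
  set θ : G → Subgroup G := fun a => Cfsg.centralizerPPrimeCore 2 a with hθ
  have hbal : ∀ a ∈ A, a ≠ 1 → ∀ b ∈ A, b ≠ 1 →
      θ a ⊓ centralizer ({b} : Set G) ≤ θ b := by
    intro a ha _ b hb hb1
    have hWn : centralizer ({a} : Set G) ⊓ centralizer ({b} : Set G) ≤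
        normalizer ((core a ⊓ centralizer ({b} : Set G) : Subgroup G) : Set G) :=
      (inf_le_inf (H88.Walter.core_normal a) le_normalizer).trans inf_normalizer_le_normalizer_inf
    have hW : Odd (Nat.card ↥(core a ⊓ centralizer ({b} : Set G))) :=
      H88.Walter.odd_of_le (H88.Walter.core_odd a) inf_le_left
    refine h.le_core_of_cent hd hb hb1 hW
      (fun s hs => hWn ⟨h.S_le_cent ha hs, h.S_le_cent hb hs⟩) inf_le_right fun K hK => ?_
    exact h.le_cent_bal hd hb hb1 hK (hall b hb hb1 K hK hb).2 ha hW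
      (inf_le_left.trans (H88.Walter.core_le a)) hWn
  have hsolv : Cfsg.IsSolvableSignalizerFunctor 2 A θ := by
    refine ⟨⟨fun a _ _ => H88.Walter.core_le a,
      fun a _ _ => H47.not_dvd_centralizerPPrimeCore a, fun a ha _ v hv x hx => ?_,
      fun a ha ha1 b hb hb1 => hbal a ha ha1 b hb hb1⟩, fun a _ _ => ?_⟩
    · exact Coprime.conj_mem (H88.Walter.core_normal a (h.le_cent ha hv)) hx
    · exact S0205.result (H88.Walter.core_odd a)
  have hcomp := Signalizer.complete_hyp_of_closed (Signalizer.twoColourClosed 2) G A θ h.elem hA3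
    hsolv
  set W := Fusion.Signalizer.gen θ A with hW
  have hfour : ∀ B : Subgroup G, B ≤ A → 4 ≤ Nat.card B →
      centralizer (B : Set G) ≤ normalizer (W : Set G) := by
    intro B hB hB4
    rw [hW, ← (Fusion.Signalizer.gen_eq h.elem hcomp (H47.elementaryAbelian_of_le h.elem hB) hB
      (by simpa using hB4)).1]
    exact H47.normalizer_iSup fun a =>
      (centralizer_le (Set.singleton_subset_iff.2 a.2.1)).trans (H88.Walter.core_normal _)
  have hNA : normalizer (A : Set G) ≤ normalizer (W : Set G) := by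
    intro n hn
    refine Coprime.mem_normalizer_of_map_conj (eq_of_le_of_card_ge ?_ (by rw [Coprime.card_map_conj]))
    rw [hW, Fusion.Signalizer.gen, Cfsg.signalizerClosure, Subgroup.map_iSup]
    refine iSup_le fun a => ?_
    rw [hθ, ← Fusion.Signalizer.centralizerPPrimeCore_conj]
    exact le_iSup (fun a : {a : G // a ∈ A ∧ a ≠ 1} => Cfsg.centralizerPPrimeCore 2 (a : G))
      ⟨n * a * n⁻¹, (mem_normalizer_iff.1 hn _).1 a.2.1,
        fun e => a.2.2 (conj_eq_one_iff.1 e)⟩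
  obtain ⟨a₀, ha₀, ha₀1⟩ := h.exists_ne_one
  have hWodd : ¬ 2 ∣ Nat.card W :=
    (Fusion.Signalizer.gen_eq h.elem hcomp h.elem le_rfl
      (le_trans (by norm_num) hA3)).2
  have hW1 : W = ⊥ := by
    by_contra hne
    have htop : normalizer (W : Set G) = ⊤ := by
      refine h.eq_top hNA fun b hb hb1 => centralizer_le_of_covered h hb hNA
        (fun E hE hE8 => hfour E hE (by omega)) fun K hK => covered_of_qp h hb ?_
      exact hfour _ inf_le_left (hall b hb hb1 K hK hb).1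
    rcases (normalizer_eq_top_iff.1 htop).eq_bot_or_eq_top with e | e
    · exact hne e
    · refine hWodd ?_
      rw [e, Subgroup.card_top, ← h.orderOf_eq ha₀ ha₀1]
      exact orderOf_dvd_natCard _
  have hcoreA : ∀ a ∈ A, a ≠ 1 → core a = ⊥ := fun a ha ha1 => le_bot_iff.1
    (hW1 ▸ (le_iSup_of_le (⟨a, ha, ha1⟩ : {a : G // a ∈ A ∧ a ≠ 1}) le_rfl : core a ≤ W))
  intro t ht
  obtain ⟨g, hg⟩ := h.exists_conj ht
  have hg1 : g * t * g⁻¹ ≠ 1 := fun e => by
    rw [← H39.orderOf_conj g t, e, orderOf_one] at ht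
    omega
  have h1 := hcoreA _ hg hg1
  rw [core, Fusion.Signalizer.centralizerPPrimeCore_conj,
    Subgroup.map_eq_bot_iff_of_injective _ (MulAut.conj g).injective, Cfsg.centralizerPPrimeCore,
    Subgroup.map_eq_bot_iff_of_injective _ (Subgroup.subtype_injective _)] at h1
  exact h1

/-! ### The dichotomy -/

/-- `N(A)` and the normalizers of the subgroups of order 8 of `A` generate, unless all cores are
trivial. -/
theorem gen8 (h : Ctx S A) (hd : ShapeData.{u}) (hred : RedHyp.{u}) :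
    H10.Walter.CoresTrivial G ∨ ∀ M : Subgroup G, normalizer (A : Set G) ≤ M →
      (∀ E : Subgroup G, E ≤ A → Nat.card E = 8 → normalizer (E : Set G) ≤ M) → M = ⊤ := by
  refine or_iff_not_imp_right.2 fun hne => ?_
  push Not at hne
  obtain ⟨M, hN, hNE, hM⟩ := hne
  have hC : ∀ E : Subgroup G, E ≤ A → 8 ≤ Nat.card E → centralizer (E : Set G) ≤ M := by
    intro E hE h8
    obtain ⟨E', hE', hc⟩ := exists_card_eq (p := 2) h.elem hE (j := 3) (by simpa using h8)
    exact (centralizer_le hE').trans ((centralizer_le_normalizer _).trans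
      (hNE E' (hE'.trans hE) (by simpa using hc)))
  -- a bad point has a bad component
  have hbad : ∀ b ∈ A, b ≠ 1 → ¬ centralizer ({b} : Set G) ≤ M →
      ∃ K : Subgroup (Bb b), Cfsg.IsComponent K ∧ IsPair A (qp A b K) (vp A b K) ∧
        ¬ K ≤ coreImage b M := by
    intro b hb hb1 hbM
    obtain ⟨K, hK, hKM⟩ : ∃ K : Subgroup (Bb b), Cfsg.IsComponent K ∧ ¬ K ≤ coreImage b M := by
      by_contra! hc
      exact hbM (centralizer_le_of_covered h hb hN hC hc)
    refine ⟨K, hK, isPair_of_comp h hd hred hb hb1 hK (le_four_of_lt h inf_le_left ?_), hKM⟩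
    by_contra h8
    exact hKM (covered_of_qp h hb (hC _ inf_le_left (not_lt.1 h8)))
  obtain ⟨b₀, hb₀, hb₀1, hb₀M⟩ : ∃ b ∈ A, b ≠ 1 ∧ ¬ centralizer ({b} : Set G) ≤ M := by
    by_contra! hc
    exact hM (h.eq_top hN hc)
  obtain ⟨K₀, hK₀, P₀, -⟩ := hbad b₀ hb₀ hb₀1 hb₀M
  set Q := qp A b₀ K₀
  set V := vp A b₀ K₀
  have hb₀Q : b₀ ∈ Q := h.self_mem_qp hd hb₀ hb₀1 hK₀
  have hmix : ∀ a ∈ A, a ∉ Q → a ∉ V → centralizer ({a} : Set G) ≤ M := by
    intro a ha haQ haV
    by_contra hc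
    obtain ⟨K, hK, P, -⟩ := hbad a ha (fun e => haQ (e ▸ one_mem _)) hc
    have haq := h.self_mem_qp hd ha (fun e => haQ (e ▸ one_mem _)) hK
    rcases P₀.unique h P with ⟨e, -⟩ | ⟨e, -⟩
    · exact haQ (e ▸ haq)
    · exact haV (e ▸ haq)
  -- every involution of both sides is bad
  have hVbad : ∀ x ∈ V, x ≠ 1 → ¬ centralizer ({x} : Set G) ≤ M := fun x hx hx1 hxM =>
    hM (key h P₀.Q_le P₀.V_le P₀.disj P₀.norm_Q P₀.norm_V hmix hx hx1 hxM hb₀Q hb₀1)
  obtain ⟨x₀, hx₀, hx₀1⟩ : ∃ x ∈ V, x ≠ 1 := by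
    by_contra! hc
    have := P₀.four
    rw [show V = ⊥ from (eq_bot_iff_forall V).2 hc, Subgroup.card_bot] at this
    omega
  have hdis : ∀ {y : G}, y ∈ V → y ∈ Q → y = 1 := fun hy hy' => by
    have : _ ∈ V ⊓ Q := ⟨hy, hy'⟩
    rwa [P₀.disj, mem_bot] at this
  have hV4 : Nat.card V = 4 := by
    obtain ⟨K, hK, P, -⟩ := hbad x₀ (P₀.V_le hx₀) hx₀1 (hVbad x₀ hx₀ hx₀1)
    have hxq := h.self_mem_qp hd (P₀.V_le hx₀) hx₀1 hK
    rcases P₀.unique h P with ⟨e, -⟩ | ⟨e, -⟩
    · exact absurd (hdis hx₀ (e ▸ hxq)) hx₀1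
    · rw [← e]; exact P.card_Q
  have hQbad : ∀ x ∈ Q, x ≠ 1 → ¬ centralizer ({x} : Set G) ≤ M := fun x hx hx1 hxM =>
    hM (key h P₀.V_le P₀.Q_le (by rw [inf_comm]; exact P₀.disj) P₀.norm_V P₀.norm_Q
      (fun a ha h1 h2 => hmix a ha h2 h1) hx hx1 hxM hx₀ hx₀1)
  have hA16 : Nat.card A = 16 := by rw [← P₀.card_mul, hV4, P₀.card_Q]
  refine coresTrivial_of_balanced h hd fun b hb hb1 K hK hb' => ?_
  have hpair : IsPair A (qp A b K) (vp A b K) := by
    refine isPair_of_comp h hd hred hb hb1 hK ?_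
    have h1 := h.card_mul hd hb hb1 hK
    have h2 := h.four_le_vp hd hb hb1 hK
    rw [hA16] at h1
    have := Nat.mul_le_mul_right (Nat.card (qp A b K)) h2
    omega
  refine ⟨hpair.card_Q.ge, ?_⟩
  have hbq := h.self_mem_qp hd hb hb1 hK
  have hbM : ¬ centralizer ({b} : Set G) ≤ M := by
    rcases P₀.unique h hpair with ⟨e, -⟩ | ⟨e, -⟩
    · exact hQbad b (e ▸ hbq) hb1
    · exact hVbad b (e ▸ hbq) hb1
  obtain ⟨K', hK', P', hK'M⟩ := hbad b hb hb1 hbM
  have hKK' : K' = K := by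
    by_contra hne
    have hle := h.vp_le_qp hd hb hK hK' hne
    have hb'q := h.self_mem_qp hd hb hb1 hK'
    have e : qp A b K = qp A b K' := by
      rcases P₀.unique h hpair with ⟨e, -⟩ | ⟨e, -⟩ <;>
        rcases P₀.unique h P' with ⟨e', -⟩ | ⟨e', -⟩
      · exact e.trans e'.symm
      · exact absurd (hdis (e' ▸ hb'q) (e ▸ hbq)) hb1
      · exact absurd (hdis (e ▸ hbq) (e' ▸ hb'q)) hb1
      · exact e.trans e'.symm
    have h1 : vp A b K' ≤ ⊥ := (le_inf le_rfl (hle.trans e.le)).trans P'.disj.le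
    have := P'.four
    rw [le_bot_iff.1 h1, Subgroup.card_bot] at this
    omega
  subst hKK'
  obtain ⟨P, hg, hP⟩ := h.exists_piece hd hb hb1 hK
  rcases hg.type with hu | hbal
  · exact absurd (covered_of_unbal h hd hb hb1 hK hN hC hpair.card_Q hP hu) hK'M
  · rw [← hP]
    exact hbal

end Cfsg.Agent.H21.Walter
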