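import Cfsg.Agent.H21.Walter.Closure
import Cfsg.Agent.S0205

/-!
# The case `p = 2`

By the odd order theorem the cores are solvable, so half-balance is enough.
-/

set_option autoImplicit false

namespace Cfsg.Agent.H21.Walter

open Subgroup

universe u

variable {G : Type u} [Group G] [Finite G] {k : ℕ} {A : Subgroup G}

theorem setup_two (hk : 1 ≤ k) (hA : Cfsg.IsElementaryAbelian 2 A)
    (hAk : 2 ^ (k + 2) ≤ Nat.card A) (hw : Cfsg.IsWeaklyKBalancedWrt 2 k A) : Setup 2 k A := by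
  have : Fact (Nat.Prime 2) := ⟨Nat.prime_two⟩
  refine ⟨hk, hA, hAk, hw, fun a _ _ => ?_, ?_⟩
  · exact S0205.result (Nat.not_even_iff_odd.1 fun h =>
      H47.not_dvd_centralizerPPrimeCore a h.two_dvd)
  · exact S0205.result (Nat.not_even_iff_odd.1 fun h => not_dvd_core A h.two_dvd)

/-- A half-balanced group with solvable cores whose normalizers of large subgroups of `A` generate
has trivial `Δ(E)` and small `Δ(B)`. -/
theorem trivial_of_gen_two [IsSimpleGroup G] (hk : 1 ≤ k) (hA : Cfsg.IsElementaryAbelian 2 A)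
    (hAk : 2 ^ (k + 2) ≤ Nat.card A) (hbal : Cfsg.IsKHalfBalancedWrt 2 k A)
    (hgen : ∀ M : Subgroup G, normalizer (A : Set G) ≤ M →
      (∀ E : Subgroup G, E ≤ A → Nat.card E = 2 ^ (k + 1) → normalizer (E : Set G) ≤ M) → M = ⊤) :
    (∀ E : Subgroup G, E ≤ A → 2 ^ (k + 1) ≤ Nat.card E → Cfsg.signalizerDelta 2 E = ⊥) ∧
      (∀ B : Subgroup G, B ≤ A → 2 ^ k ≤ Nat.card B →
        Cfsg.signalizerDelta 2 B ≤ Cfsg.centralizerSubgroupPPrimeCore 2 A) :=
  have : Fact (Nat.Prime 2) := ⟨Nat.prime_two⟩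
  (setup_two hk hA hAk hbal.1).trivial_of_gen hbal.2 hgen

end Cfsg.Agent.H21.Walter
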