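import Cfsg.Agent.H21.Walter.Pieces
import Cfsg.Agent.H21.Walter.Two
import Cfsg.Agent.Cores.Constrained

/-!
# Half-balance from the pieces of the centralizers

If every `C(b)`, `b ∈ A#`, is a product of pieces modulo its core, then `G` is weakly 2-balanced
and 3-balanced with respect to `A` for the prime 2.
-/

set_option autoImplicit false
set_option linter.unusedSectionVars false

namespace Cfsg.Agent.H21.Walter

open Subgroup
open Cfsg.Agent Cfsg.Agent.Coprime
open scoped commutatorElement

universe u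

variable {G : Type u} [Group G] [Finite G] {A : Subgroup G}

instance core_normal (b : G) : (Cfsg.pPrimeCore 2 ↥(centralizer ({b} : Set G))).Normal :=
  Cfsg.pPrimeCore_normal 2 _

/-- The projection modulo the core. -/
def coreProj (b : G) :
    ↥(centralizer ({b} : Set G)) →*
      ↥(centralizer ({b} : Set G)) ⧸ Cfsg.pPrimeCore 2 ↥(centralizer ({b} : Set G)) :=
  QuotientGroup.mk' _

/-- The image of a subgroup in a centralizer modulo its core. -/
def coreImage (b : G) (H : Subgroup G) :
    Subgroup (↥(centralizer ({b} : Set G)) ⧸ Cfsg.pPrimeCore 2 ↥(centralizer ({b} : Set G))) :=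
  (H.subgroupOf (centralizer ({b} : Set G))).map (coreProj b)

theorem card_coreImage_odd (b : G) {H : Subgroup G} (hH : ¬ 2 ∣ Nat.card H) :
    Odd (Nat.card (coreImage b H)) := by
  refine Nat.not_even_iff_odd.1 fun he => hH (he.two_dvd.trans ?_)
  refine (Subgroup.card_map_dvd _ _).trans ?_
  rw [← Subgroup.card_map_of_injective (Subgroup.subtype_injective (centralizer ({b} : Set G)))]
  exact card_dvd_of_le (by rw [subgroupOf_map_subtype]; exact inf_le_left)

/-- The centralizer of the image of a 2-subgroup normalizes the image of what is normalized. -/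
theorem centralizer_le_normalizer_coreImage {b : G} {P H : Subgroup G}
    (hP : IsPGroup 2 P) (h : centralizer (P : Set G) ⊓ centralizer {b} ≤ normalizer (H : Set G))
    (hPb : P ≤ centralizer {b}) :
    centralizer (coreImage b P : Set (_ ⧸ Cfsg.pPrimeCore 2 ↥(centralizer ({b} : Set G)))) ≤
      normalizer (coreImage b H : Set (_ ⧸ Cfsg.pPrimeCore 2 ↥(centralizer ({b} : Set G)))) := by
  have : Fact (Nat.Prime 2) := ⟨Nat.prime_two⟩
  have hP' : IsPGroup 2 ↥(P.subgroupOf (centralizer ({b} : Set G))) :=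
    hP.comap_subtype (K := centralizer ({b} : Set G))
  rw [coreImage, coreImage, coreProj, ← Cores.map_centralizer_of_coprime _
    ((Nat.prime_two.coprime_iff_not_dvd.2 Cores.not_dvd_card_pPrimeCore).symm) hP']
  rintro _ ⟨g, hg, rfl⟩
  refine le_normalizer_map _ (mem_map_of_mem _ ?_)
  have hgP : (g : G) ∈ centralizer (P : Set G) := mem_centralizer_iff.2 fun x hx =>
    congrArg Subtype.val (mem_centralizer_iff.1 hg ⟨x, hPb hx⟩ hx)
  have hn := h ⟨hgP, g.2⟩
  rw [mem_normalizer_iff] at hn ⊢
  exact fun y => hn y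

theorem coreProj_eq_one_iff {b : G} {x : ↥(centralizer ({b} : Set G))} :
    coreProj b x = 1 ↔ (x : G) ∈ Cfsg.centralizerPPrimeCore 2 b := by
  rw [coreProj, QuotientGroup.mk'_apply, QuotientGroup.eq_one_iff, Cfsg.centralizerPPrimeCore]
  exact (mem_map_iff_mem (Subgroup.subtype_injective _)).symm

variable (hA : Cfsg.IsElementaryAbelian 2 A)
include hA

theorem coreProj_injOn {b : G} {x : ↥(centralizer ({b} : Set G))} (hx : (x : G) ∈ A)
    (h : coreProj b x = 1) : x = 1 := by
  have h2 := coreProj_eq_one_iff.1 h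
  have hodd : Odd (Nat.card (Cfsg.centralizerPPrimeCore 2 b)) := by
    have : Fact (Nat.Prime 2) := ⟨Nat.prime_two⟩
    exact Nat.not_even_iff_odd.1 fun he => H47.not_dvd_centralizerPPrimeCore b he.two_dvd
  exact Subtype.ext (eq_one_of_odd hodd h2 (by rw [← pow_two]; exact hA.2 _ hx))

theorem card_coreImage {b : G} {B : Subgroup G} (hB : B ≤ A) (hBb : B ≤ centralizer {b}) :
    Nat.card (coreImage b B) = Nat.card B := by
  refine le_antisymm ((Nat.le_of_dvd Nat.card_pos (Subgroup.card_map_dvd _ _)).trans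
    (Nat.card_congr (subgroupOfEquivOfLe hBb).toEquiv).le) ?_
  refine Nat.card_le_card_of_injective
    (fun x : B => ⟨coreProj b ⟨x, hBb x.2⟩, mem_map_of_mem _ (show (⟨x, hBb x.2⟩ :
      ↥(centralizer ({b} : Set G))) ∈ B.subgroupOf _ from x.2)⟩) fun x y hxy => ?_
  have h1 : coreProj b ⟨x, hBb x.2⟩ = coreProj b ⟨y, hBb y.2⟩ := congrArg Subtype.val hxy
  have h2 : coreProj b (⟨x, hBb x.2⟩⁻¹ * ⟨y, hBb y.2⟩) = 1 := by
    rw [map_mul, map_inv, h1, inv_mul_cancel]
  have h3 := coreProj_injOn hA (A.mul_mem (A.inv_mem (hB x.2)) (hB y.2)) h2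
  exact Subtype.ext (congrArg Subtype.val (inv_mul_eq_one.1 h3) :)

omit hA in
theorem under_of_delta {b : G} {B : Subgroup G} (hBe : Cfsg.IsElementaryAbelian 2 B)
    (hBb : B ≤ centralizer {b}) (hc : 2 ≤ Nat.card B) :
    LocalPieces.Under (coreImage b B) (coreImage b (Cfsg.signalizerDelta 2 B ⊓ centralizer {b})) := by
  have : Fact (Nat.Prime 2) := ⟨Nat.prime_two⟩
  refine ⟨card_coreImage_odd b fun h => H47.not_dvd_delta (k := 1) le_rfl (by simpa using hc)
      (h.trans (card_dvd_of_le inf_le_left)),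
    centralizer_le_normalizer_coreImage (H47.isPGroup_of_elementaryAbelian hBe)
      ((le_inf ?_ (inf_le_right.trans le_normalizer)).trans inf_normalizer_le_normalizer_inf) hBb,
    ?_⟩
  · exact inf_le_left.trans (H47.normalizer_iInf fun e =>
      (centralizer_le (Set.singleton_subset_iff.2 e.2.1)).trans
        (H47.centralizer_le_normalizer_core _))
  rintro _ ⟨⟨e, heb⟩, he, rfl⟩ he1
  replace he : e ∈ B := he
  have he' : e ≠ 1 := fun h => he1 (by
    rw [show (⟨e, heb⟩ : ↥(centralizer ({b} : Set G))) = 1 from Subtype.ext h, map_one])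
  refine ⟨coreImage b (Cfsg.centralizerPPrimeCore 2 e ⊓ centralizer {b}), ?_, ?_, ?_, ?_⟩
  · exact card_coreImage_odd b fun h =>
      H47.not_dvd_centralizerPPrimeCore e (h.trans (card_dvd_of_le inf_le_left))
  · rintro _ ⟨k, hk, rfl⟩
    refine mem_centralizer_singleton_iff.2 ?_
    rw [← map_mul, ← map_mul]
    exact congrArg _ (Subtype.ext
      (mem_centralizer_singleton_iff.1 (H47.centralizerPPrimeCore_le e hk.1)))
  · have hez : zpowers e ≤ centralizer ({b} : Set G) := zpowers_le.2 heb
    refine le_trans ?_ (centralizer_le_normalizer_coreImage (P := zpowers e)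
      ((H47.isPGroup_of_elementaryAbelian hBe).to_le (zpowers_le.2 he))
      ((le_inf (inf_le_left.trans ((centralizer_le (Set.singleton_subset_iff.2
        (mem_zpowers e))).trans (H47.centralizer_le_normalizer_core e)))
        (inf_le_right.trans le_normalizer)).trans inf_normalizer_le_normalizer_inf) hez)
    intro g hg
    refine mem_centralizer_iff.2 ?_
    rintro _ ⟨⟨x, hxb⟩, hx, rfl⟩
    obtain ⟨n, rfl⟩ := mem_zpowers_iff.1 (show x ∈ zpowers e from hx)
    have : (⟨e ^ n, hxb⟩ : ↥(centralizer ({b} : Set G))) = ⟨e, heb⟩ ^ n := Subtype.ext (by simp)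
    rw [this, map_zpow]
    exact (Commute.zpow_left (Commute.symm (mem_centralizer_singleton_iff.1 hg :
      Commute g (coreProj b ⟨e, heb⟩))) n).eq
  · exact map_mono (comap_mono (inf_le_inf_right _ (H47.delta_le he he')))

theorem le_centralizer_self {b : G} (hb : b ∈ A) : A ≤ centralizer {b} := fun x hx =>
  mem_centralizer_singleton_iff.2 (congrArg Subtype.val (hA.1.is_comm.comm ⟨x, hx⟩ ⟨b, hb⟩))

variable (hP : ∀ b ∈ A, b ≠ 1 → HasPieces (coreImage b A))
include hP

theorem isWeaklyTwoBalanced : Cfsg.IsWeaklyKBalancedWrt 2 2 A := by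
  intro B hB hBe hc b hb hb1
  obtain ⟨ι, Z, L, V, P⟩ := hP b hb hb1
  have hAb := le_centralizer_self hA hb
  have hW := P.weak (map_mono (comap_mono hB))
    (by
      have h := card_coreImage hA hB (hB.trans hAb)
      rw [coreImage] at h
      exact le_of_le_of_eq (by simpa using hc) h.symm)
    (under_of_delta hBe (hB.trans hAb) (le_trans (by norm_num) hc))
  refine commutator_le.2 fun x hx v hv => ?_
  have hcomm := hW (mem_map_of_mem (coreProj b)
    (show (⟨x, hx.2⟩ : ↥(centralizer ({b} : Set G))) ∈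
      (Cfsg.signalizerDelta 2 B ⊓ centralizer {b}).subgroupOf _ from hx))
  have h1 := mem_centralizer_iff.1 hcomm _ (mem_map_of_mem (coreProj b)
    (show (⟨v, hAb hv⟩ : ↥(centralizer ({b} : Set G))) ∈ A.subgroupOf _ from hv))
  have h2 : coreProj b ⁅(⟨x, hx.2⟩ : ↥(centralizer ({b} : Set G))), ⟨v, hAb hv⟩⁆ = 1 := by
    rw [map_commutatorElement, commutatorElement_eq_one_iff_mul_comm]
    exact h1.symm
  simpa [commutatorElement_def] using coreProj_eq_one_iff.1 h2

theorem isThreeBalanced : Cfsg.IsKBalancedWrt 2 (2 + 1) A := by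
  intro B hB hBe hc b hb hb1 x hx
  obtain ⟨ι, Z, L, V, P⟩ := hP b hb hb1
  have hAb := le_centralizer_self hA hb
  have hW := P.three (map_mono (comap_mono hB))
    (by
      have h := card_coreImage hA hB (hB.trans hAb)
      rw [coreImage] at h
      exact le_of_le_of_eq (by simpa using hc) h.symm)
    (under_of_delta hBe (hB.trans hAb) (le_trans (by norm_num) hc))
  have h1 : coreProj b ⟨x, hx.2⟩ = 1 := by
    rw [← mem_bot, ← hW]
    exact mem_map_of_mem _ (show (⟨x, hx.2⟩ : ↥(centralizer ({b} : Set G))) ∈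
      (Cfsg.signalizerDelta 2 B ⊓ centralizer {b}).subgroupOf _ from hx)
  exact coreProj_eq_one_iff.1 h1

/-- `G` is 5/2-balanced with respect to `A`. -/
theorem isKHalfBalanced : Cfsg.IsKHalfBalancedWrt 2 2 A :=
  ⟨isWeaklyTwoBalanced hA hP, isThreeBalanced hA hP⟩

end Cfsg.Agent.H21.Walter
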