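import Cfsg.Agent.H21.Walter.Functor
import Cfsg.Agent.Signalizer.Corollaries
import Cfsg.Agent.Signalizer.Main
import Cfsg.Agent.Fusion.SignalizerTrivial

/-!
# The half-balanced subgroup

With `W` the closure of the weakly balanced functor, `Θ_{k+1/2}(G; E)` is the same subgroup of `W`
for every `E ≤ A` of order at least `p^(k+1)`.  Hence it is normalized by `N(A)` and by all `N(E)`,
and it is trivial when these generate a simple group.
-/

set_option autoImplicit false
set_option linter.unusedSectionVars false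

namespace Cfsg.Agent.H21.Walter

open Subgroup
open Cfsg.Agent Cfsg.Agent.Coprime
open scoped commutatorElement

universe u

variable {G : Type u} [Group G] [Finite G] {p : ℕ} [hpF : Fact p.Prime] {k : ℕ} {A : Subgroup G}

theorem map_elementaryAbelian {D : Subgroup G} (hD : Cfsg.IsElementaryAbelian p D) (g : G) :
    Cfsg.IsElementaryAbelian p (D.map (MulAut.conj g).toMonoidHom : Subgroup G) := by
  refine ⟨⟨⟨?_⟩⟩, ?_⟩
  · rintro ⟨_, x, hx, rfl⟩ ⟨_, y, hy, rfl⟩
    refine Subtype.ext ?_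
    show (MulAut.conj g) x * (MulAut.conj g) y = (MulAut.conj g) y * (MulAut.conj g) x
    rw [← map_mul, ← map_mul, show x * y = y * x from
      congrArg Subtype.val (hD.1.is_comm.comm ⟨x, hx⟩ ⟨y, hy⟩)]
  · rintro _ ⟨x, hx, rfl⟩
    rw [← map_pow, hD.2 x hx, map_one]

theorem map_delta_le (D : Subgroup G) (g : G) :
    (Cfsg.signalizerDelta p D).map (MulAut.conj g).toMonoidHom ≤
      Cfsg.signalizerDelta p (D.map (MulAut.conj g).toMonoidHom) := by
  refine H47.le_delta fun e he he1 => ?_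
  obtain ⟨d, hd, rfl⟩ := he
  have hd1 : d ≠ 1 := fun h => he1 (by simp [h])
  simp only [MulEquiv.coe_toMonoidHom, MulAut.conj_apply]
  rw [Fusion.Signalizer.centralizerPPrimeCore_conj]
  exact map_mono (H47.delta_le hd hd1)

theorem map_thetaHalf_le (E : Subgroup G) (g : G) :
    (Cfsg.thetaHalf p k E).map (MulAut.conj g).toMonoidHom ≤
      Cfsg.thetaHalf p k (E.map (MulAut.conj g).toMonoidHom) := by
  rw [Cfsg.thetaHalf, Subgroup.map_sup, Subgroup.map_iSup]
  refine sup_le_sup (map_delta_le E g) (iSup_le fun D => ?_)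
  refine le_iSup_of_le ⟨D.1.map (MulAut.conj g).toMonoidHom, map_mono D.2.1,
    map_elementaryAbelian D.2.2.1 g, by rw [Coprime.card_map_conj]; exact D.2.2.2⟩ ?_
  rw [map_commutator]
  exact commutator_mono (map_delta_le _ g) le_rfl

theorem normalizer_le_normalizer_thetaHalf (E : Subgroup G) :
    normalizer (E : Set G) ≤ normalizer (Cfsg.thetaHalf p k E : Set G) := fun g hg =>
  mem_normalizer_of_map_conj (eq_of_le_of_card_ge
    ((map_thetaHalf_le E g).trans_eq (by rw [map_conj_eq hg]))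
    (by rw [Coprime.card_map_conj]))

theorem delta_mem_thetaHalf (E : Subgroup G) :
    Cfsg.signalizerDelta p E ≤ Cfsg.thetaHalf p k E := le_sup_left

theorem comm_delta_le_thetaHalf {E D : Subgroup G} (hE : Cfsg.IsElementaryAbelian p E)
    (hD : D ≤ E) (hc : p ^ k ≤ Nat.card D) :
    ⁅Cfsg.signalizerDelta p D, E⁆ ≤ Cfsg.thetaHalf p k E :=
  le_sup_of_le_right (le_iSup_of_le ⟨D, hD, H47.elementaryAbelian_of_le hE hD, hc⟩ le_rfl)

namespace Setup

variable (S : Setup p k A)
include S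

/-- The closure of the weakly balanced functor. -/
local notation "W" => Cfsg.signalizerClosure A (Cfsg.weaklyKBalancedTheta p k A)

theorem closure_spec :
    ¬ p ∣ Nat.card ↥W ∧ Group.IsSolvable ↥W ∧
      ∀ a ∈ A, a ≠ 1 → W ⊓ centralizer {a} = Cfsg.weaklyKBalancedTheta p k A a :=
  Signalizer.closure_spec_of_closed (Signalizer.twoColourClosed p) S.elem
    ((Nat.pow_le_pow_right hpF.out.pos (by have := S.pos; omega)).trans S.large)
    S.isSolvableSignalizerFunctor

theorem A_le_norm_closure : A ≤ normalizer (W : Set G) :=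
  H47.normalizer_iSup fun a => S.A_le_norm_theta a.2.1

theorem theta_le_closure {a : G} (ha : a ∈ A) (h1 : a ≠ 1) :
    Cfsg.weaklyKBalancedTheta p k A a ≤ W :=
  le_iSup_of_le ⟨a, ha, h1⟩ le_rfl

theorem elem_of_le {E : Subgroup G} (hE : E ≤ A) : Cfsg.IsElementaryAbelian p E :=
  H47.elementaryAbelian_of_le S.elem hE

theorem delta_le_closure {D : Subgroup G} (hD : D ≤ A) (hc : p ^ k ≤ Nat.card D) :
    Cfsg.signalizerDelta p D ≤ W := by
  have := S.comm
  refine Coprime.le_of_centralizer_cyclic_quotient_le (H47.le_normalizer_delta S.comm hD)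
    (S.coprime (S.delta_coprime hc) le_rfl) fun H hH hHh => ?_
  obtain ⟨E, hEH, hEc⟩ := exists_sub_of_hyper (k := k) S.elem
    ((Nat.pow_le_pow_right hpF.out.pos (by omega)).trans S.large) hH hHh
  obtain ⟨a, ha, ha1⟩ := H47.exists_ne_one_of_card hpF.out.two_le S.pos hEc.ge
  refine le_trans ?_ (S.theta_le_closure (hH (hEH ha)) ha1)
  refine le_sup_of_le_left (le_iSup_of_le ⟨D, hD, S.elem_of_le hD, hc⟩ ?_)
  exact inf_le_inf_left _ (centralizer_le (Set.singleton_subset_iff.2 (hEH ha)))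

/-- Fixed points of a hyperplane of `E` in the closure. -/
theorem closure_fixed_le {B : Subgroup G} (hB : B ≤ A) (hc : p ^ k ≤ Nat.card B) :
    ∃ D ≤ B, p ^ k ≤ Nat.card D ∧ W ⊓ centralizer (B : Set G) ≤
      Cfsg.signalizerDelta p D ⊔ Cfsg.centralizerSubgroupPPrimeCore p A := by
  obtain ⟨D, hDB, hDc⟩ := exists_card_eq S.elem hB hc
  refine ⟨D, hDB, hDc.ge, fun y hy => ?_⟩
  obtain ⟨b, hb, hb1⟩ := H47.exists_ne_one_of_card hpF.out.two_le S.pos hc
  have hyb : y ∈ Cfsg.weaklyKBalancedTheta p k A b := by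
    rw [← S.closure_spec.2.2 b (hB hb) hb1]
    exact ⟨hy.1, centralizer_le (Set.singleton_subset_iff.2 hb) hy.2⟩
  rw [S.theta_eq (hB hb)] at hyb
  obtain ⟨r, hr, u, hu, rfl⟩ := (Coprime.mem_sup_iff (S.core_le_norm (hB hb))).1 hyb
  refine Subgroup.mul_mem _ ?_ (mem_sup_right hu)
  have hrc : r ∈ centralizer (D : Set G) := by
    simpa using Subgroup.mul_mem _ (centralizer_le hDB hy.2)
      (Subgroup.inv_mem _ (centralizer_le (hDB.trans hB) (core_le A hu)))
  exact (sup_le_sup inf_le_left le_rfl : _ ≤ Cfsg.signalizerDelta p D ⊔ _) (S.fixed_le (hB hb) hb1 (hDB.trans hB) hDc ⟨hr, hrc⟩)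

/-- `[W, E]` is generated by the commutators of `E` with the `Δ(D)`. -/
theorem comm_closure_le {E : Subgroup G} (hE : E ≤ A) (hc : p ^ (k + 1) ≤ Nat.card E) :
    ⁅W, E⁆ ≤ ⨆ D : {D : Subgroup G // D ≤ E ∧ Cfsg.IsElementaryAbelian p D ∧ p ^ k ≤ Nat.card D},
      ⁅Cfsg.signalizerDelta p (D : Subgroup G), E⁆ := by
  have := (S.elem_of_le hE).1
  rw [← iSup_commutator_cyclic_quotient (hE.trans S.A_le_norm_closure)
    (S.coprime S.closure_spec.1 hE)]
  refine iSup₂_le fun B hB => ?_
  obtain ⟨D₀, hD₀, hD₀c⟩ := exists_sub_of_hyper (k := k) (S.elem_of_le hE) hc hB.1 hB.2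
  obtain ⟨D, hDB, hDc, hle⟩ := S.closure_fixed_le (hB.1.trans hE)
    (hD₀c.ge.trans (Nat.le_of_dvd Nat.card_pos (card_dvd_of_le hD₀)))
  refine (commutator_mono hle le_rfl).trans (commutator_sup_le
    ((core_le A).trans (S.centA_le_norm_delta ((hDB.trans hB.1).trans hE)))
    ((core_le A).trans (centralizer_le hE)) ?_)
  exact le_iSup_of_le ⟨D, hDB.trans hB.1, S.elem_of_le ((hDB.trans hB.1).trans hE), hDc⟩ le_rfl

theorem thetaHalf_eq_sup {E : Subgroup G} (hE : E ≤ A) (hc : p ^ (k + 1) ≤ Nat.card E) :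
    Cfsg.thetaHalf p k E = Cfsg.signalizerDelta p E ⊔ ⁅W, E⁆ := by
  refine le_antisymm (sup_le le_sup_left (iSup_le fun D => le_sup_of_le_right ?_))
    (sup_le le_sup_left (le_sup_of_le_right (S.comm_closure_le hE hc)))
  exact commutator_mono (S.delta_le_closure (D.2.1.trans hE) D.2.2.2) le_rfl

theorem thetaHalf_le_closure {E : Subgroup G} (hE : E ≤ A) (hc : p ^ (k + 1) ≤ Nat.card E) :
    Cfsg.thetaHalf p k E ≤ W := by
  rw [S.thetaHalf_eq_sup hE hc]
  exact sup_le (S.delta_le_closure hE ((Nat.pow_le_pow_right hpF.out.pos (by omega)).trans hc))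
    (commutator_le_left_of_normalizer (hE.trans S.A_le_norm_closure))

theorem comm_fixed_le_delta {E : Subgroup G} (hE : E ≤ A) :
    ⁅W ⊓ centralizer (E : Set G), A⁆ ≤ Cfsg.signalizerDelta p E := by
  refine H47.le_delta fun e he he1 => ?_
  have hle : W ⊓ centralizer (E : Set G) ≤
      commPart p k A e ⊔ Cfsg.centralizerSubgroupPPrimeCore p A := by
    rw [← S.theta_eq (hE he), ← S.closure_spec.2.2 e (hE he) he1]
    exact inf_le_inf_left _ (centralizer_le (Set.singleton_subset_iff.2 he))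
  refine (commutator_mono hle le_rfl).trans
    (commutator_sup_le (S.core_le_norm (hE he)) (core_le A) ?_)
  exact (commutator_le_left_of_normalizer
    (S.le_centA.trans (S.centA_le_norm_commPart (hE he)))).trans (S.commPart_le_core (hE he) he1)

theorem A_le_norm_comm_closure {E : Subgroup G} (hE : E ≤ A) :
    A ≤ normalizer ((⁅W, E⁆ : Subgroup G) : Set G) := fun _ ha =>
  conj_mem_comm (S.A_le_norm_closure ha)
    (centralizer_le_normalizer (E : Set G) (centralizer_le hE (S.le_centA ha)))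

theorem comm_closure_le_thetaHalf {E : Subgroup G} (hE : E ≤ A) (hc : p ^ (k + 1) ≤ Nat.card E) :
    ⁅W, A⁆ ≤ Cfsg.thetaHalf p k E := by
  rw [S.thetaHalf_eq_sup hE hc]
  refine commutator_le.2 fun x hx v hv => ?_
  have hnW := hE.trans S.A_le_norm_closure
  rw [← commutator_sup_centralizer hnW (S.coprime S.closure_spec.1 hE)
    (Or.inr S.closure_spec.2.1), sup_comm] at hx
  obtain ⟨y, hy, c, hc', rfl⟩ := (Coprime.mem_sup_iff
    (inf_le_left.trans (normalizer_commutator_ge_left _ _))).1 (by rwa [sup_comm])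
  rw [commutatorElement_mul_left_eq_conj_mul]
  refine Subgroup.mul_mem _ ?_ ?_
  · refine Subgroup.mul_mem _ (Subgroup.mul_mem _ (mem_sup_right hy) (mem_sup_left ?_))
      (Subgroup.inv_mem _ (mem_sup_right hy))
    exact S.comm_fixed_le_delta hE (commutator_mem_commutator hc' hv)
  · exact mem_sup_right (commutator_le_left_of_normalizer (S.A_le_norm_comm_closure hE)
      (commutator_mem_commutator hy hv))

variable (hk1 : Cfsg.IsKBalancedWrt p (k + 1) A)
include hk1

theorem delta_inf_le {E : Subgroup G} (hE : E ≤ A) (hc : p ^ (k + 1) ≤ Nat.card E) :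
    Cfsg.signalizerDelta p E ⊓ centralizer (A : Set G) ≤ Cfsg.signalizerDelta p A :=
  H47.le_delta fun a ha ha1 => (inf_le_inf_left _
    (centralizer_le (Set.singleton_subset_iff.2 ha))).trans (hk1 E hE (S.elem_of_le hE) hc a ha ha1)

/-- The half-balanced subgroup does not depend on `E ≤ A`. -/
theorem thetaHalf_eq {E : Subgroup G} (hE : E ≤ A) (hc : p ^ (k + 1) ≤ Nat.card E) :
    Cfsg.thetaHalf p k A = Cfsg.thetaHalf p k E := by
  have hA : p ^ (k + 1) ≤ Nat.card A := (Nat.pow_le_pow_right hpF.out.pos (by omega)).trans S.large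
  have hck : p ^ k ≤ Nat.card E := (Nat.pow_le_pow_right hpF.out.pos (by omega)).trans hc
  refine le_antisymm ?_ ?_
  · rw [S.thetaHalf_eq_sup le_rfl hA]
    exact sup_le ((H47.delta_anti hE).trans (delta_mem_thetaHalf E))
      (S.comm_closure_le_thetaHalf hE hc)
  · rw [S.thetaHalf_eq_sup hE hc, S.thetaHalf_eq_sup le_rfl hA]
    refine sup_le ?_ (le_sup_of_le_right (commutator_mono le_rfl hE))
    conv_lhs => rw [← commutator_sup_centralizer (H47.le_normalizer_delta S.comm hE)
      (S.coprime (S.delta_coprime hck) le_rfl) (Or.inr (S.delta_solvable hE hck))]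
    exact sup_le (le_sup_of_le_right (commutator_mono (S.delta_le_closure hE hck) le_rfl))
      (le_sup_of_le_left (S.delta_inf_le hk1 hE hc))

/-- The content of S1862 for solvable cores. -/
theorem thetaHalf_spec :
    (∀ E : Subgroup G, E ≤ A → p ^ (k + 1) ≤ Nat.card E →
        Cfsg.thetaHalf p k A = Cfsg.thetaHalf p k E) ∧
      Cfsg.thetaHalf p k A ≤ W ∧ ¬ p ∣ Nat.card ↥(Cfsg.thetaHalf p k A) := by
  have h := S.thetaHalf_le_closure (E := A) le_rfl
    ((Nat.pow_le_pow_right hpF.out.pos (by omega)).trans S.large)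
  exact ⟨fun E hE hc => S.thetaHalf_eq hk1 hE hc, h,
    fun hd => S.closure_spec.1 (hd.trans (card_dvd_of_le h))⟩

/-- If the normalizers generate a simple group, the half-balanced subgroup is trivial. -/
theorem thetaHalf_eq_bot [IsSimpleGroup G]
    (hgen : ∀ M : Subgroup G, normalizer (A : Set G) ≤ M →
      (∀ E : Subgroup G, E ≤ A → Nat.card E = p ^ (k + 1) → normalizer (E : Set G) ≤ M) → M = ⊤) :
    Cfsg.thetaHalf p k A = ⊥ := by
  have htop := hgen _ (normalizer_le_normalizer_thetaHalf (p := p) (k := k) A) fun E hE hc => by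
    rw [S.thetaHalf_eq hk1 hE hc.ge]
    exact normalizer_le_normalizer_thetaHalf E
  refine (IsSimpleGroup.eq_bot_or_eq_top_of_normal _
    (normalizer_eq_top_iff.1 htop)).resolve_right fun h => ?_
  refine (S.thetaHalf_spec hk1).2.2 ?_
  rw [h, Subgroup.card_top]
  obtain ⟨E, -, hEc⟩ := exists_card_eq S.elem le_rfl S.large
  exact (dvd_pow_self p (Nat.succ_ne_zero (k + 1))).trans
    (hEc.symm.dvd.trans (card_subgroup_dvd_card E))

theorem delta_eq_bot (h0 : Cfsg.thetaHalf p k A = ⊥) {E : Subgroup G} (hE : E ≤ A)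
    (hc : p ^ (k + 1) ≤ Nat.card E) : Cfsg.signalizerDelta p E = ⊥ := by
  rw [S.thetaHalf_eq hk1 hE hc] at h0
  exact (le_bot_iff.1 ((delta_mem_thetaHalf E).trans h0.le))

theorem delta_le_core_of_bot (h0 : Cfsg.thetaHalf p k A = ⊥) {B : Subgroup G} (hB : B ≤ A)
    (hc : p ^ k ≤ Nat.card B) :
    Cfsg.signalizerDelta p B ≤ Cfsg.centralizerSubgroupPPrimeCore p A :=
  S.le_of_comm_le hB hc le_rfl (H47.le_normalizer_delta S.comm hB)
    (((comm_delta_le_thetaHalf S.elem hB hc).trans h0.le).trans bot_le) le_rfl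

/-- If the normalizers generate a simple group, `Δ(E) = 1` and `Δ(B) ≤ O_{p'}(C(A))`. -/
theorem trivial_of_gen [IsSimpleGroup G]
    (hgen : ∀ M : Subgroup G, normalizer (A : Set G) ≤ M →
      (∀ E : Subgroup G, E ≤ A → Nat.card E = p ^ (k + 1) → normalizer (E : Set G) ≤ M) → M = ⊤) :
    (∀ E : Subgroup G, E ≤ A → p ^ (k + 1) ≤ Nat.card E → Cfsg.signalizerDelta p E = ⊥) ∧
      (∀ B : Subgroup G, B ≤ A → p ^ k ≤ Nat.card B →
        Cfsg.signalizerDelta p B ≤ Cfsg.centralizerSubgroupPPrimeCore p A) :=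
  ⟨fun _ hE hc => S.delta_eq_bot hk1 (S.thetaHalf_eq_bot hk1 hgen) hE hc,
    fun _ hB hc => S.delta_le_core_of_bot hk1 (S.thetaHalf_eq_bot hk1 hgen) hB hc⟩

end Setup

end Cfsg.Agent.H21.Walter
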