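import Cfsg.Prelude.Def_EvenTechniques
import Cfsg.Agent.H47.Delta
import Cfsg.Agent.H40.SupSolvable
import Cfsg.Agent.H77.PPAb.Basic
import Cfsg.Agent.H21.Walter.GWWeak

/-!
# The weakly balanced functor

For `A` elementary abelian of order at least `p^(k+2)`, weak `k`-balance with respect to `A` makes
`a ↦ ⟨Δ(B) ∩ C(a)⟩ O_{p'}(C(A))` an `A`-signalizer functor, provided the cores are solvable.
-/

set_option autoImplicit false
set_option linter.unusedSectionVars false

namespace Cfsg.Agent.H21.Walter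

open Subgroup
open Cfsg.Agent Cfsg.Agent.Coprime
open scoped commutatorElement

universe u

variable {G : Type u} [Group G] [Finite G] {p : ℕ} [hpF : Fact p.Prime] {k : ℕ} {A : Subgroup G}

/-- The standing hypotheses of the weakly balanced functor. -/
structure Setup (p k : ℕ) (A : Subgroup G) : Prop where
  pos : 1 ≤ k
  elem : Cfsg.IsElementaryAbelian p A
  large : p ^ (k + 2) ≤ Nat.card A
  weak : Cfsg.IsWeaklyKBalancedWrt p k A
  solv : ∀ a ∈ A, a ≠ 1 → Group.IsSolvable ↥(Cfsg.centralizerPPrimeCore p a)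
  solvU : Group.IsSolvable ↥(Cfsg.centralizerSubgroupPPrimeCore p A)

/-- The commutator part of the weakly balanced functor. -/
def commPart (p k : ℕ) (A : Subgroup G) (a : G) : Subgroup G :=
  ⨆ B : {B : Subgroup G // B ≤ A ∧ Cfsg.IsElementaryAbelian p B ∧ p ^ k ≤ Nat.card B},
    ⁅Cfsg.signalizerDelta p (B : Subgroup G) ⊓ centralizer {a}, A⁆

omit [Finite G] hpF in
theorem core_le (A : Subgroup G) :
    Cfsg.centralizerSubgroupPPrimeCore p A ≤ centralizer (A : Set G) :=
  Subgroup.map_subtype_le _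

theorem not_dvd_core (A : Subgroup G) :
    ¬ p ∣ Nat.card (Cfsg.centralizerSubgroupPPrimeCore p A) := by
  rw [Cfsg.centralizerSubgroupPPrimeCore,
    Subgroup.card_map_of_injective (Subgroup.subtype_injective _)]
  exact Cores.not_dvd_card_pPrimeCore

theorem le_core {K : Subgroup G} (hK : K ≤ centralizer (A : Set G))
    (hn : centralizer (A : Set G) ≤ normalizer (K : Set G)) (hp : ¬ p ∣ Nat.card K) :
    K ≤ Cfsg.centralizerSubgroupPPrimeCore p A := by
  have hN : (K.subgroupOf (centralizer (A : Set G))).Normal :=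
    normal_subgroupOf_of_le_normalizer hn
  have hc : (Nat.card (K.subgroupOf (centralizer (A : Set G)))).Coprime p := by
    rw [Nat.card_congr (Subgroup.subgroupOfEquivOfLe hK).toEquiv]
    exact (hpF.out.coprime_iff_not_dvd.2 hp).symm
  intro x hx
  exact ⟨⟨x, hK hx⟩, Cores.le_pPrimeCore hc hx, rfl⟩

/-- Elements commuting with `E` drop out of commutators with `E`. -/
theorem commutator_sup_le {P Q E M : Subgroup G} (hQP : Q ≤ normalizer (P : Set G))
    (hQ : Q ≤ centralizer (E : Set G)) (h : ⁅P, E⁆ ≤ M) : ⁅P ⊔ Q, E⁆ ≤ M := by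
  refine commutator_le.2 fun x hx e he => ?_
  obtain ⟨d, hd, u, hu, rfl⟩ := (Coprime.mem_sup_iff hQP).1 hx
  rw [commutatorElement_mul_left_eq_conj_mul,
    commutatorElement_eq_one_iff_mul_comm.2 (commute_of_mem_centralizer (hQ hu) he).symm,
    mul_one, mul_inv_cancel, one_mul]
  exact h (commutator_mem_commutator hd he)

theorem hyper_card (hA : Cfsg.IsElementaryAbelian p A) {B : Subgroup G} (hB : B ≤ A)
    (h : ∃ c ∈ A, B ⊔ zpowers c = A) : Nat.card A ≤ Nat.card B * p := by
  obtain ⟨c, hc, hBc⟩ := h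
  have hBn : zpowers c ≤ normalizer (B : Set G) := by
    refine (zpowers_le.2 ?_).trans (centralizer_le_normalizer (B : Set G))
    exact mem_centralizer_iff.2 fun y hy =>
      congrArg Subtype.val (hA.1.is_comm.comm ⟨y, hB hy⟩ ⟨c, hc⟩)
  have hsurj : Function.Surjective fun x : B × zpowers c =>
      (⟨(x.1 : G) * x.2, mul_mem (hB x.1.2) (zpowers_le.2 hc x.2.2)⟩ : A) := by
    intro u
    obtain ⟨y, hy, z, hz, he⟩ := (Coprime.mem_sup_iff hBn).1 (hBc.ge u.2)
    exact ⟨(⟨y, hy⟩, ⟨z, hz⟩), Subtype.ext he⟩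
  refine (Nat.card_le_card_of_surjective _ hsurj).trans ?_
  rw [Nat.card_prod, Nat.card_zpowers]
  exact Nat.mul_le_mul_left _
    (Nat.le_of_dvd hpF.out.pos (orderOf_dvd_of_pow_eq_one (hA.2 c hc)))

theorem exists_card_eq (hA : Cfsg.IsElementaryAbelian p A) {B : Subgroup G} (hB : B ≤ A) {j : ℕ}
    (h : p ^ j ≤ Nat.card B) : ∃ E : Subgroup G, E ≤ B ∧ Nat.card E = p ^ j := by
  obtain ⟨E, hE⟩ := Sylow.exists_subgroup_card_pow_prime_of_le_card (G := B) hpF.out
    ((H47.isPGroup_of_elementaryAbelian hA).to_le hB) (n := j) h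
  exact ⟨E.map B.subtype, Subgroup.map_subtype_le _,
    by rw [Subgroup.card_map_of_injective B.subtype_injective, hE]⟩

/-- A proper member of the chain meets every hyperplane in a subgroup of order `p^k`. -/
theorem exists_sub_of_hyper {E : Subgroup G} (hE : Cfsg.IsElementaryAbelian p E)
    (hcard : p ^ (k + 1) ≤ Nat.card E) {B : Subgroup G} (hB : B ≤ E)
    (h : ∃ c ∈ E, B ⊔ zpowers c = E) : ∃ D : Subgroup G, D ≤ B ∧ Nat.card D = p ^ k := by
  refine exists_card_eq hE hB (Nat.le_of_mul_le_mul_right ?_ hpF.out.pos)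
  rw [← pow_succ]
  exact hcard.trans (hyper_card hE hB h)

theorem conj_mem_comm {P Q : Subgroup G} {g : G} (hP : g ∈ normalizer (P : Set G))
    (hQ : g ∈ normalizer (Q : Set G)) : g ∈ normalizer ((⁅P, Q⁆ : Subgroup G) : Set G) :=
  mem_normalizer_of_map_conj (by rw [map_commutator, map_conj_eq hP, map_conj_eq hQ])

namespace Setup

variable (S : Setup p k A)
include S

theorem comm : IsMulCommutative A := S.elem.1

theorem le_centA : A ≤ centralizer (A : Set G) := fun x hx =>
  mem_centralizer_iff.2 fun y hy => congrArg Subtype.val (S.comm.is_comm.comm ⟨y, hy⟩ ⟨x, hx⟩)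

theorem le_cent {a : G} (ha : a ∈ A) : centralizer (A : Set G) ≤ centralizer {a} :=
  centralizer_le (Set.singleton_subset_iff.2 ha)

theorem coprime {H : Subgroup G} (h : ¬ p ∣ Nat.card H) {E : Subgroup G} (hE : E ≤ A) :
    (Nat.card E).Coprime (Nat.card H) := by
  obtain ⟨n, hn⟩ := IsPGroup.iff_card.1 ((H47.isPGroup_of_elementaryAbelian S.elem).to_le hE)
  rw [hn]
  exact Nat.Coprime.pow_left _ (hpF.out.coprime_iff_not_dvd.2 h)

theorem centA_le_norm_delta {B : Subgroup G} (hB : B ≤ A) :
    centralizer (A : Set G) ≤ normalizer (Cfsg.signalizerDelta p B : Set G) :=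
  H47.normalizer_iInf fun e => (S.le_cent (hB e.2.1)).trans (H47.centralizer_le_normalizer_core _)

omit S in
theorem delta_le_cent {B : Subgroup G} :
    Cfsg.signalizerDelta p B ≤ centralizer (B : Set G) := fun x hx => by
  refine mem_centralizer_iff.2 fun e he => ?_
  rcases eq_or_ne e 1 with rfl | he1
  · simp
  exact (mem_centralizer_singleton_iff.1
    (H47.centralizerPPrimeCore_le e (H47.delta_le he he1 hx))).symm

theorem centA_le_norm_piece {B : Subgroup G} (hB : B ≤ A) {a : G} (ha : a ∈ A) :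
    centralizer (A : Set G) ≤
      normalizer ((Cfsg.signalizerDelta p B ⊓ centralizer {a} : Subgroup G) : Set G) :=
  (le_inf (S.centA_le_norm_delta hB) ((S.le_cent ha).trans le_normalizer)).trans
    inf_normalizer_le_normalizer_inf

theorem centA_le_norm_commPart {a : G} (ha : a ∈ A) :
    centralizer (A : Set G) ≤ normalizer (commPart p k A a : Set G) :=
  H47.normalizer_iSup fun B => fun _ hg =>
    conj_mem_comm (S.centA_le_norm_piece B.2.1 ha hg) (centralizer_le_normalizer (A : Set G) hg)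

theorem commPart_le_core {a : G} (ha : a ∈ A) (h1 : a ≠ 1) :
    commPart p k A a ≤ Cfsg.centralizerPPrimeCore p a :=
  iSup_le fun B => S.weak B B.2.1 B.2.2.1 B.2.2.2 a ha h1

theorem commPart_coprime {a : G} (ha : a ∈ A) (h1 : a ≠ 1) :
    ¬ p ∣ Nat.card (commPart p k A a) := fun h =>
  H47.not_dvd_centralizerPPrimeCore a (h.trans (card_dvd_of_le (S.commPart_le_core ha h1)))

theorem piece_le {B : Subgroup G} (hB : B ≤ A) (hc : p ^ k ≤ Nat.card B) {a : G} :
    ⁅Cfsg.signalizerDelta p B ⊓ centralizer {a}, A⁆ ≤ commPart p k A a :=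
  le_iSup_of_le ⟨B, hB, H47.elementaryAbelian_of_le S.elem hB, hc⟩ le_rfl

theorem delta_coprime {B : Subgroup G} (hc : p ^ k ≤ Nat.card B) :
    ¬ p ∣ Nat.card (Cfsg.signalizerDelta p B) :=
  H47.not_dvd_delta S.pos hc

theorem delta_solvable {B : Subgroup G} (hB : B ≤ A) (hc : p ^ k ≤ Nat.card B) :
    Group.IsSolvable ↥(Cfsg.signalizerDelta p B) := by
  obtain ⟨b, hb, hb1⟩ := H47.exists_ne_one_of_card hpF.out.two_le S.pos hc
  exact isSolvable_of_le (H47.delta_le hb hb1) (S.solv b (hB hb) hb1)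

/-- An invariant part of `Δ(B)` centralized by `A` lies in `O_{p'}(C(A))`. -/
theorem delta_inf_le_core {B : Subgroup G} (hB : B ≤ A) (hc : p ^ k ≤ Nat.card B) :
    Cfsg.signalizerDelta p B ⊓ centralizer (A : Set G) ≤
      Cfsg.centralizerSubgroupPPrimeCore p A :=
  le_core inf_le_right
    ((le_inf (S.centA_le_norm_delta hB) le_normalizer).trans inf_normalizer_le_normalizer_inf)
    fun h => S.delta_coprime hc (h.trans (card_dvd_of_le inf_le_left))

/-- An invariant subgroup of `Δ(B)` is generated by its commutator with `A` and a part of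
`O_{p'}(C(A))`. -/
theorem le_of_comm_le {B X M : Subgroup G} (hB : B ≤ A) (hc : p ^ k ≤ Nat.card B)
    (hX : X ≤ Cfsg.signalizerDelta p B) (hA : A ≤ normalizer (X : Set G))
    (h : ⁅X, A⁆ ≤ M) (hU : Cfsg.centralizerSubgroupPPrimeCore p A ≤ M) : X ≤ M := by
  rw [← commutator_sup_centralizer hA
    (Coprime.coprime_of_le hX (S.coprime (S.delta_coprime hc) le_rfl))
    (Or.inr (isSolvable_of_le hX (S.delta_solvable hB hc)))]
  exact sup_le h ((inf_le_inf_right _ hX).trans ((S.delta_inf_le_core hB hc).trans hU))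

/-- The value of the weakly balanced functor is the commutator part times `O_{p'}(C(A))`. -/
theorem theta_eq {a : G} (ha : a ∈ A) :
    Cfsg.weaklyKBalancedTheta p k A a =
      commPart p k A a ⊔ Cfsg.centralizerSubgroupPPrimeCore p A := by
  refine le_antisymm (sup_le (iSup_le fun B => ?_) le_sup_right) (sup_le ?_ le_sup_right)
  · exact S.le_of_comm_le B.2.1 B.2.2.2 inf_le_left
      (S.le_centA.trans (S.centA_le_norm_piece B.2.1 ha))
      ((S.piece_le B.2.1 B.2.2.2).trans le_sup_left) le_sup_right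
  · refine le_sup_of_le_left (iSup_le fun B => ?_)
    refine le_iSup_of_le B ?_
    exact commutator_le_left_of_normalizer (S.le_centA.trans (S.centA_le_norm_piece B.2.1 ha))

theorem core_le_norm {a : G} (ha : a ∈ A) :
    Cfsg.centralizerSubgroupPPrimeCore p A ≤ normalizer (commPart p k A a : Set G) :=
  (core_le A).trans (S.centA_le_norm_commPart ha)

theorem theta_le_cent {a : G} (ha : a ∈ A) :
    Cfsg.weaklyKBalancedTheta p k A a ≤ centralizer {a} :=
  sup_le (iSup_le fun _ => inf_le_right) ((core_le A).trans (S.le_cent ha))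

theorem A_le_norm_core :
    A ≤ normalizer (Cfsg.centralizerSubgroupPPrimeCore p A : Set G) := by
  refine fun v hv => mem_normalizer_of_map_conj (le_antisymm ?_ ?_)
  · rintro _ ⟨x, hx, rfl⟩
    simpa [conj_eq_of_mem_centralizer (core_le A hx) hv] using hx
  · intro x hx
    exact ⟨x, hx, by simp [conj_eq_of_mem_centralizer (core_le A hx) hv]⟩

theorem A_le_norm_theta {a : G} (ha : a ∈ A) :
    A ≤ normalizer (Cfsg.weaklyKBalancedTheta p k A a : Set G) := by
  intro v hv
  rw [S.theta_eq ha]
  refine mem_normalizer_of_map_conj ?_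
  rw [Subgroup.map_sup, map_conj_eq (S.centA_le_norm_commPart ha (S.le_centA hv)),
    map_conj_eq (S.A_le_norm_core hv)]

theorem theta_coprime {a : G} (ha : a ∈ A) (h1 : a ≠ 1) :
    ¬ p ∣ Nat.card (Cfsg.weaklyKBalancedTheta p k A a) := by
  rw [S.theta_eq ha]
  intro h
  rw [sup_comm] at h
  rcases hpF.out.dvd_mul.1 (h.trans (H77.PPAb.card_sup_dvd_of_normalizes
    (S.core_le_norm ha))) with h | h
  exacts [not_dvd_core A h, S.commPart_coprime ha h1 h]

theorem theta_solvable {a : G} (ha : a ∈ A) (h1 : a ≠ 1) :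
    Group.IsSolvable ↥(Cfsg.weaklyKBalancedTheta p k A a) := by
  rw [S.theta_eq ha]
  exact H40.isSolvable_sup (S.core_le_norm ha)
    (isSolvable_of_le (S.commPart_le_core ha h1) (S.solv a ha h1)) S.solvU

/-- The weakly balanced family inside the commutator part. -/
theorem family {a : G} (ha : a ∈ A) (h1 : a ≠ 1) :
    WeakFamily A (commPart p k A a) (p ^ k)
      (fun E => ((Cfsg.signalizerDelta p E ⊓ centralizer {a}) ⊔
        Cfsg.centralizerSubgroupPPrimeCore p A) ⊓ commPart p k A a)
      (fun E => (Cfsg.signalizerDelta p E ⊓ centralizer {a}) ⊓ commPart p k A a) where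
  comm := S.comm
  norm := S.le_centA.trans (S.centA_le_norm_commPart ha)
  coprime := S.coprime (S.commPart_coprime ha h1) le_rfl
  solvable := isSolvable_of_le (S.commPart_le_core ha h1) (S.solv a ha h1)
  le := fun E hE _ => le_inf inf_le_right (inf_le_left.trans
    (sup_le (inf_le_left.trans delta_le_cent) ((core_le A).trans (centralizer_le hE))))
  norm_F := fun E hE _ v hv => by
    refine inf_normalizer_le_normalizer_inf
      ⟨?_, S.centA_le_norm_commPart ha (S.le_centA hv)⟩
    refine mem_normalizer_of_map_conj ?_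
    rw [Subgroup.map_sup, map_conj_eq (S.centA_le_norm_piece hE ha (S.le_centA hv)),
      map_conj_eq (S.A_le_norm_core hv)]
  sub := fun E hE _ => ⟨inf_le_inf_right _ le_sup_left, fun g hg =>
    inf_normalizer_le_normalizer_inf ⟨inf_normalizer_le_normalizer_inf
      ⟨H47.normalizer_iInf (fun e : {e : G // e ∈ E ∧ e ≠ 1} =>
          (centralizer_le (Set.singleton_subset_iff.2
            (show (e : G) ∈ (E : Set G) from e.2.1))).trans
          (H47.centralizer_le_normalizer_core (p := p) (e : G))) hg.2,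
        le_normalizer (H47.centralizerPPrimeCore_le a (S.commPart_le_core ha h1 hg.1))⟩,
      le_normalizer hg.1⟩⟩
  balanced := fun E hE h E' hE' h' x hx => by
    obtain ⟨⟨hx1, hxR⟩, hxc⟩ := hx
    obtain ⟨d, hd, u, hu, rfl⟩ := (Coprime.mem_sup_iff
      ((core_le A).trans (S.centA_le_norm_piece hE ha))).1 hx1
    refine ⟨mul_mem ?_ (mem_sup_right hu), hxR⟩
    have hdc : d ∈ centralizer (E' : Set G) := by
      simpa using Subgroup.mul_mem _ hxc (Subgroup.inv_mem _ (centralizer_le hE' (core_le A hu)))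
    refine S.le_of_comm_le hE h.ge
      (X := Cfsg.signalizerDelta p E ⊓ centralizer {a} ⊓ centralizer (E' : Set G))
      (inf_le_left.trans inf_le_left) ?_ ?_ le_sup_right ⟨hd, hdc⟩
    · exact H47.normalizer_inf_centralizer (S.le_centA.trans (S.centA_le_norm_piece hE ha))
        (S.le_centA.trans (centralizer_le hE'))
    · refine le_sup_of_le_left (le_inf (H47.le_delta fun e he he1 => ?_) ?_)
      · exact (commutator_mono (le_inf (inf_le_left.trans inf_le_left)
          (inf_le_right.trans (centralizer_le (Set.singleton_subset_iff.2 he)))) le_rfl).trans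
          (S.weak E hE (H47.elementaryAbelian_of_le S.elem hE) h.ge e (hE' he) he1)
      · refine commutator_le.2 fun y hy v hv => ?_
        have hv' := S.le_cent ha (S.le_centA hv)
        rw [commutatorElement_def]
        exact Subgroup.mul_mem _ (Subgroup.mul_mem _ (Subgroup.mul_mem _ hy.1.2 hv') (Subgroup.inv_mem _ hy.1.2))
          (Subgroup.inv_mem _ hv')
  gen := iSup_le fun B => by
    obtain ⟨B, hB, -, hBc⟩ := B
    obtain ⟨E, hEB, hEc⟩ := exists_card_eq S.elem hB hBc
    refine le_iSup_of_le E (le_iSup_of_le (hEB.trans hB) (le_iSup_of_le hEc (le_inf ?_ ?_)))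
    · refine le_sup_of_le_left ((commutator_le_left_of_normalizer
        (S.le_centA.trans (S.centA_le_norm_piece hB ha))).trans ?_)
      exact inf_le_inf_right _ (H47.delta_anti hEB)
    · exact S.piece_le hB hBc
  inter := fun B hB hBh B' hB' hB'h => by
    refine exists_card_eq S.elem (inf_le_left.trans hB) ?_
    have h1 := hyper_card S.elem hB hBh
    have h2 := hyper_card S.elem hB' hB'h
    have hmul := Subgroup.relIndex_mul_relIndex (⊥ : Subgroup G) (B ⊓ B') A bot_le
      (inf_le_left.trans hB)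
    rw [Subgroup.relIndex_bot_left, Subgroup.relIndex_bot_left] at hmul
    have hrel : ∀ C ≤ A, Nat.card A ≤ Nat.card C * p → C.relIndex A ≤ p := fun C hC hc => by
      have h := Subgroup.relIndex_mul_relIndex (⊥ : Subgroup G) C A bot_le hC
      rw [Subgroup.relIndex_bot_left, Subgroup.relIndex_bot_left] at h
      exact Nat.le_of_mul_le_mul_left (h.le.trans hc) Nat.card_pos
    have h3 := (Subgroup.relIndex_inf_le (H := B) (K := B') (L := A)).trans
      (Nat.mul_le_mul (hrel B hB h1) (hrel B' hB' h2))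
    refine Nat.le_of_mul_le_mul_right ?_ (Nat.mul_pos hpF.out.pos hpF.out.pos)
    calc p ^ k * (p * p) = p ^ (k + 2) := by ring
      _ ≤ Nat.card A := S.large
      _ ≤ Nat.card ↥(B ⊓ B') * (p * p) := hmul ▸ Nat.mul_le_mul_left _ h3
  gen₀ := iSup_le fun B => by
    obtain ⟨B, hB, hBe, hBc⟩ := B
    have : IsMulCommutative A := S.comm
    set D := Cfsg.signalizerDelta p B ⊓ centralizer ({a} : Set G) with hD
    have hAD : A ≤ normalizer (D : Set G) := S.le_centA.trans (S.centA_le_norm_piece hB ha)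
    have hcop := Coprime.coprime_of_le (inf_le_left : D ≤ _) (S.coprime (S.delta_coprime hBc) le_rfl)
    have hsol := isSolvable_of_le (inf_le_left : D ≤ _) (S.delta_solvable hB hBc)
    have hPD : ⁅D, A⁆ ≤ D := commutator_le_left_of_normalizer hAD
    show ⁅D, A⁆ ≤ _
    rw [← commutator_commutator_eq hAD hcop (Or.inr hsol),
      ← iSup_commutator_cyclic_quotient (normalizer_commutator_ge_right D A)
        (Coprime.coprime_of_le hPD hcop)]
    refine iSup₂_le fun H hH => commutator_le.2 fun c hc v hv => subset_closure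
      ⟨H, hH.1, hH.2, fun E hE hEc => ⟨⟨?_, ?_⟩, ?_⟩⟩
    · refine H47.le_delta (fun e he he1 => ?_) (commutator_mem_commutator
        (show c ∈ D ⊓ centralizer (E : Set G) from ⟨hPD hc.1, centralizer_le hE hc.2⟩) hv)
      exact (commutator_mono (le_inf (inf_le_left.trans inf_le_left)
        (inf_le_right.trans (centralizer_le (Set.singleton_subset_iff.2 he)))) le_rfl).trans
        (S.weak B hB hBe hBc e (hH.1 (hE he)) he1)
    · have hv' := S.le_cent ha (S.le_centA hv)
      rw [commutatorElement_def]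
      exact Subgroup.mul_mem _ (Subgroup.mul_mem _ (Subgroup.mul_mem _ (hPD hc.1).2 hv')
        (Subgroup.inv_mem _ (hPD hc.1).2)) (Subgroup.inv_mem _ hv')
    · exact S.piece_le hB hBc (commutator_mem_commutator (hPD hc.1) hv)

theorem fixed_le {a : G} (ha : a ∈ A) (h1 : a ≠ 1) {E : Subgroup G} (hE : E ≤ A)
    (hc : Nat.card E = p ^ k) :
    commPart p k A a ⊓ centralizer (E : Set G) ≤
      (Cfsg.signalizerDelta p E ⊓ centralizer {a}) ⊔ Cfsg.centralizerSubgroupPPrimeCore p A :=
  ((S.family ha h1).fixed_le hE hc).trans inf_le_left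

theorem balance {a : G} (ha : a ∈ A) (h1 : a ≠ 1) {b : G} (hb : b ∈ A) :
    Cfsg.weaklyKBalancedTheta p k A a ⊓ centralizer {b} ≤ Cfsg.weaklyKBalancedTheta p k A b := by
  intro x hx
  rw [S.theta_eq ha] at hx
  obtain ⟨r, hr, u, hu, rfl⟩ := (Coprime.mem_sup_iff (S.core_le_norm ha)).1 hx.1
  refine mul_mem ?_ (mem_sup_right hu)
  have hrb : r ∈ centralizer {b} := by
    simpa using Subgroup.mul_mem _ hx.2 (Subgroup.inv_mem _ (S.le_cent hb (core_le A hu)))
  have : IsMulCommutative A := S.comm
  refine Coprime.le_of_centralizer_cyclic_quotient_le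
    (K := commPart p k A a ⊓ centralizer {b})
    (H47.normalizer_inf_centralizer (F := zpowers b) (S.le_centA.trans (S.centA_le_norm_commPart ha))
      (S.le_centA.trans (centralizer_le (zpowers_le.2 hb))) |>.trans_eq (by
        rw [zpowers_eq_closure, centralizer_closure]))
    (Coprime.coprime_of_le inf_le_left (S.coprime (S.commPart_coprime ha h1) le_rfl))
    (fun H hH hHh y hy => ?_) ⟨hr, hrb⟩
  obtain ⟨E, hEH, hEc⟩ := exists_sub_of_hyper (k := k) S.elem
    ((Nat.pow_le_pow_right hpF.out.pos (by omega)).trans S.large) hH hHh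
  obtain ⟨d, hd, v, hv, rfl⟩ := (Coprime.mem_sup_iff ((core_le A).trans
    (S.centA_le_norm_piece (hEH.trans hH) ha))).1
    (S.fixed_le ha h1 (hEH.trans hH) hEc ⟨hy.1.1, centralizer_le hEH hy.2⟩)
  refine mul_mem (mem_sup_left ?_) (mem_sup_right hv)
  refine le_iSup (fun B : {B : Subgroup G // B ≤ A ∧ Cfsg.IsElementaryAbelian p B ∧
      p ^ k ≤ Nat.card B} => Cfsg.signalizerDelta p (B : Subgroup G) ⊓ centralizer {b})
    ⟨E, hEH.trans hH, H47.elementaryAbelian_of_le S.elem (hEH.trans hH), hEc.ge⟩ ⟨hd.1, ?_⟩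
  simpa using Subgroup.mul_mem _ hy.1.2 (Subgroup.inv_mem _ (S.le_cent hb (core_le A hv)))

theorem isSolvableSignalizerFunctor :
    Cfsg.IsSolvableSignalizerFunctor p A (Cfsg.weaklyKBalancedTheta p k A) :=
  ⟨⟨fun _ ha _ => S.theta_le_cent ha, fun _ ha h1 => S.theta_coprime ha h1,
    fun _ ha _ _ hb _ hx => Coprime.conj_mem (S.A_le_norm_theta ha hb) hx,
    fun _ ha h1 _ hb _ => S.balance ha h1 hb⟩, fun _ ha h1 => S.theta_solvable ha h1⟩

end Setup

end Cfsg.Agent.H21.Walter
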