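import Cfsg.Agent.H21.Walter.Gen
import Cfsg.Agent.H88.Walter.Members

/-!
# The pair hypothesis of the members
-/

set_option autoImplicit false

namespace Cfsg.Agent.H21.Walter

open Subgroup
open Cfsg.Agent.H88.Walter (Ctx ShapeData RedHyp PairHyp)

universe u

variable {G : Type u} [Group G] [Finite G] {S : Sylow 2 G} {A : Subgroup G}

/-- Components with a small centralizer in `A` give invariant pairs. -/
theorem pairHyp (h : Ctx S A) (hd : ShapeData.{u}) (hred : RedHyp.{u}) : PairHyp A :=
  fun _ hb hb1 _ hK hq _ =>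
    let P := isPair_of_comp h hd hred hb hb1 hK hq
    ⟨P.card_Q, P.norm_V, P.norm_Q⟩

end Cfsg.Agent.H21.Walter
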