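import Cfsg.Agent.H88.Walter.Data
import Cfsg.Agent.H35.JT.PSL
import Cfsg.Agent.H62.PushL2
import Cfsg.Agent.Linear.Mitchell.PSLTwo.Real
import Cfsg.Agent.H58.CI.Fusion

/-!
# The piece data of `PSL(2, 2 ^ n)`

The centraliser of an involution is the Sylow 2-subgroup `P`, a torus is cyclic and transitive on
the involutions of `P`, and `P` is regular on the other points of the projective line.
-/

set_option autoImplicit false
set_option linter.unusedSectionVars false

namespace Cfsg.Agent.H21.Walter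

open Subgroup Cfsg.Agent
open Cfsg.Agent.H88.Walter (GoodPiece Fixes)

universe u

variable {L : Type u} [Group L] [Finite L]

local instance fact_two_shapeEven : Fact (Nat.Prime 2) := ⟨Nat.prime_two⟩

/-- The data from self-centralising involutions, a transitive element and the group order. -/
theorem goodPiece_of_selfCentralizing (hs : IsSimpleGroup L) (hn : ¬ IsMulCommutative L)
    {P : Subgroup L} (hsq : ∀ x ∈ P, x * x = 1) (h4 : 4 ≤ Nat.card P)
    (hC : ∀ x ∈ P, x ≠ 1 → centralizer ({x} : Set L) = P)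
    (hcyc : ∃ y ∈ normalizer (P : Set L), ∀ x ∈ P, ∀ z ∈ P, x ≠ 1 → z ≠ 1 →
      ∃ k : ℕ, y ^ k * x * (y ^ k)⁻¹ = z)
    (hcard : Nat.card L = Nat.card P * (Nat.card P ^ 2 - 1)) : GoodPiece P := by
  haveI := hs
  have hZ : center L = ⊥ := ((inferInstance : (center L).Normal).eq_bot_or_eq_top).resolve_right
    fun h => hn ⟨⟨fun a b => (mem_center_iff.1 (h ▸ mem_top b : b ∈ center L) a)⟩⟩
  obtain ⟨⟨x₀, hx₀P⟩, hx₀⟩ : ∃ x : P, x ≠ 1 := by
    haveI : Nontrivial P := Finite.one_lt_card_iff_nontrivial.1 (lt_of_lt_of_le (by norm_num) h4)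
    exact exists_ne 1
  have hx₀1 : x₀ ≠ 1 := fun h => hx₀ (Subtype.ext h)
  have hPC : centralizer (P : Set L) ≤ P := fun g hg => by
    rw [← hC x₀ hx₀P hx₀1, mem_centralizer_singleton_iff]
    exact (mem_centralizer_iff.1 hg x₀ hx₀P).symm
  set B := normalizer (P : Set L) with hB
  -- the order of the normaliser
  have hBcard : Nat.card P * (Nat.card P - 1) ≤ Nat.card B := by
    obtain ⟨y, hy, ht⟩ := hcyc
    have hk : ∀ z : {z : P // z ≠ 1}, ∃ k : ℕ, y ^ k * x₀ * (y ^ k)⁻¹ = ((z : P) : L) := fun z =>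
      ht x₀ hx₀P _ z.1.2 hx₀1 fun h => z.2 (Subtype.ext h)
    choose k hk using hk
    let f : P × {z : P // z ≠ 1} → B := fun vz =>
      ⟨y ^ k vz.2 * vz.1, mul_mem (pow_mem hy _) (le_normalizer vz.1.2)⟩
    have hf : Function.Injective f := by
      rintro ⟨v, z⟩ ⟨v', z'⟩ e
      have e' : y ^ k z * (v : L) = y ^ k z' * (v' : L) := congrArg Subtype.val e
      have hconj : ∀ (v : P) (z : {z : P // z ≠ 1}),
          y ^ k z * (v : L) * x₀ * (y ^ k z * (v : L))⁻¹ = ((z : P) : L) := fun v z => by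
        have hv : (v : L) * x₀ = x₀ * v := by
          refine mem_centralizer_singleton_iff.1 ?_
          rw [hC x₀ hx₀P hx₀1]
          exact v.2
        rw [mul_assoc (y ^ k z), hv, mul_inv_rev, ← hk z]
        group
      have hz : z = z' := by
        refine Subtype.ext (Subtype.ext ?_)
        rw [← hconj v z, e', hconj v' z']
      subst hz
      rw [Subtype.ext (mul_left_cancel e')]
    have := Nat.card_le_card_of_injective f hf
    rwa [Nat.card_prod, show Nat.card {z : P // z ≠ 1} = Nat.card P - 1 by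
      classical
      haveI := Fintype.ofFinite P
      simp [Nat.card_eq_fintype_card, Fintype.card_subtype_compl]] at this
  have hindex : B.index ≤ Nat.card P + 1 := by
    obtain ⟨k, hk⟩ : ∃ k, Nat.card P = k + 1 := ⟨Nat.card P - 1, by omega⟩
    have h1 := B.card_mul_index
    rw [hcard, hk, show (k + 1) ^ 2 - 1 = k * (k + 2) by
      rw [show (k + 1) ^ 2 = k * (k + 2) + 1 by ring, Nat.add_sub_cancel]] at h1
    rw [hk, Nat.add_sub_cancel] at hBcard
    rw [hk]
    refine Nat.le_of_mul_le_mul_left ?_ (Nat.mul_pos (show 0 < k + 1 by omega) (show 0 < k by omega))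
    calc (k + 1) * k * B.index ≤ Nat.card B * B.index := Nat.mul_le_mul_right _ hBcard
      _ = (k + 1) * k * (k + 1 + 1) := by rw [h1]; ring
  have hBtop : B ≠ ⊤ := fun h => by
    have hP : P.Normal := normalizer_eq_top_iff.1 h
    rcases hP.eq_bot_or_eq_top with e | e
    · rw [e, Subgroup.card_bot] at h4
      omega
    · refine hn ⟨⟨fun a b => ?_⟩⟩
      have hsq' : ∀ z : L, z * z = 1 := fun z => hsq z (e ▸ mem_top z)
      calc a * b = a * (a * b * (a * b)) * b := by rw [hsq', mul_one]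
        _ = a * a * (b * a) * (b * b) := by simp only [mul_assoc]
        _ = b * a := by rw [hsq', hsq', one_mul, mul_one]
  have hcore : B.normalCore = ⊥ := B.normalCore_normal.eq_bot_or_eq_top.resolve_right fun h =>
    hBtop (top_le_iff.1 (h ▸ B.normalCore_le))
  have hBP : ∀ z ∈ B, z * z = 1 → z ∈ P := by
    intro z hz hz2
    by_contra hzP
    have hconj : ∀ x ∈ P, z * x * z⁻¹ ∈ P := fun x hx => (mem_normalizer_iff.1 hz x).1 hx
    have hinv : z⁻¹ = z := inv_eq_of_mul_eq_one_right hz2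
    set w := x₀ * (z * x₀ * z⁻¹) with hw
    have hwP : w ∈ P := mul_mem hx₀P (hconj x₀ hx₀P)
    have hcomm : z * x₀ * z⁻¹ * x₀ = w := by
      have hin : z * x₀ * z⁻¹ ∈ centralizer ({x₀} : Set L) := by
        rw [hC x₀ hx₀P hx₀1]; exact hconj x₀ hx₀P
      rw [mem_centralizer_singleton_iff.1 hin, hw]
    obtain ⟨c, hc, hc1, hcz⟩ : ∃ c ∈ P, c ≠ 1 ∧ z * c = c * z := by
      by_cases hw1 : w = 1
      · refine ⟨x₀, hx₀P, hx₀1, ?_⟩
        have h : z * x₀ * z⁻¹ = x₀ := by
          rw [eq_inv_of_mul_eq_one_right hw1]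
          exact inv_eq_of_mul_eq_one_right (hsq x₀ hx₀P)
        exact mul_inv_eq_iff_eq_mul.1 h
      · refine ⟨w, hwP, hw1, mul_inv_eq_iff_eq_mul.1 ?_⟩
        calc z * w * z⁻¹ = z * x₀ * z⁻¹ * (z * z * x₀ * (z * z)⁻¹) := by rw [hw]; group
          _ = w := by rw [hz2, one_mul, inv_one, mul_one, hcomm]
    exact hzP (hC c hc hc1 ▸ mem_centralizer_singleton_iff.2 hcz)
  -- `P` is regular on the other cosets
  have htrans : ∀ g h : L, g ∉ B → h ∉ B → ∃ v ∈ P, (v * g)⁻¹ * h ∈ B := by
    intro g h hg hh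
    let f : Option P → L ⧸ B := fun o =>
      o.elim ((1 : L) : L ⧸ B) fun v => (((v : L) * g : L) : L ⧸ B)
    have hone : ∀ v : P, ((1 : L) : L ⧸ B) ≠ (((v : L) * g : L) : L ⧸ B) := fun v e => by
      rw [QuotientGroup.eq, inv_one, one_mul] at e
      have := mul_mem (inv_mem (le_normalizer v.2 : (v : L) ∈ B)) e
      rw [inv_mul_cancel_left] at this
      exact hg this
    have hf : Function.Injective f := by
      rintro (_ | v) (_ | w) e <;> simp only [f, Option.elim] at e
      · rfl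
      · exact absurd e (hone w)
      · exact absurd e.symm (hone v)
      · rw [QuotientGroup.eq] at e
        by_contra hvw
        set z := (v : L)⁻¹ * w with hz
        have hz1 : z ≠ 1 := fun h1 => hvw (congrArg some (Subtype.ext (inv_mul_eq_one.1 h1)))
        have hzP : z ∈ P := mul_mem (inv_mem v.2) w.2
        have hz'B : g⁻¹ * z * g ∈ B := by
          rw [hz]; simpa [mul_assoc] using e
        have hz'P : g⁻¹ * z * g ∈ P := hBP _ hz'B (by
          rw [show g⁻¹ * z * g * (g⁻¹ * z * g) = g⁻¹ * (z * z) * g by group, hsq z hzP]; group)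
        have hz'1 : g⁻¹ * z * g ≠ 1 := fun h1 => hz1 (by
          calc z = g * (g⁻¹ * z * g) * g⁻¹ := by group
            _ = 1 := by rw [h1]; group)
        apply hg
        refine mem_normalizer_iff.2 fun x => ?_
        have e1 : ∀ x, x ∈ P ↔ x * (g⁻¹ * z * g) = g⁻¹ * z * g * x := fun x => by
          rw [← mem_centralizer_singleton_iff, hC _ hz'P hz'1]
        have e2 : ∀ x, x ∈ P ↔ x * z = z * x := fun x => by
          rw [← mem_centralizer_singleton_iff, hC z hzP hz1]
        rw [e1 x, e2 (g * x * g⁻¹)]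
        constructor <;> intro hx
        · calc g * x * g⁻¹ * z = g * (x * (g⁻¹ * z * g)) * g⁻¹ := by group
            _ = z * (g * x * g⁻¹) := by rw [hx]; group
        · calc x * (g⁻¹ * z * g) = g⁻¹ * (g * x * g⁻¹ * z) * g := by group
            _ = g⁻¹ * z * g * x := by rw [hx]; group
    have hsurj : Function.Surjective f := by
      refine (hf.bijective_of_nat_card_le ?_).2
      rw [Finite.card_option, ← Subgroup.index_eq_card]
      exact hindex
    obtain ⟨o, ho⟩ := hsurj (h : L ⧸ B)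
    cases o with
    | none =>
      simp only [f, Option.elim] at ho
      rw [QuotientGroup.eq, inv_one, one_mul] at ho
      exact absurd ho hh
    | some v =>
      simp only [f, Option.elim] at ho
      exact ⟨v, v.2, QuotientGroup.eq.1 ho⟩
  have hrig : ∀ φ : MulAut L, Odd (orderOf φ) → Fixes φ P → φ = 1 := fun φ hφ h =>
    H88.Walter.eq_one_of_borel hsq le_normalizer hcore htrans hφ
      (H88.Walter.fixes_normalizer hsq hPC hφ h)
  refine ⟨hsq, h4, hcyc, fun x _ _ W hW hfix _ => ?_, Or.inr fun x hx hx1 => ?_⟩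
  · exact (eq_bot_iff_forall _).2 fun w hw =>
      hrig w (hW.of_dvd_nat (orderOf_dvd_natCard W hw)) (hfix w hw)
  · refine oddTrivialAt_of_rigid hZ (fun X hX hodd _ => ?_) fun φ hφ h =>
      hrig φ hφ (hC x hx hx1 ▸ h)
    rw [hC x hx hx1] at hX
    exact (eq_bot_iff_forall _).2 fun y hy => eq_one_of_odd hodd hy (hsq y (hX hy))

section PSL

variable {F : Type} [Field F] [Fintype F]

local notation "P2" => Matrix.ProjectiveSpecialLinearGroup (Fin 2) F

/-- A torus element whose powers are transitive on the involutions of a Sylow 2-subgroup. -/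
theorem exists_cyc_even [CharP F 2] (Q : Sylow 2 P2) :
    Nat.card (Q : Subgroup P2) = Fintype.card F ∧
      ∃ y ∈ normalizer ((Q : Subgroup P2) : Set P2),
      ∀ x ∈ (Q : Subgroup P2), ∀ z ∈ (Q : Subgroup P2), x ≠ 1 → z ≠ 1 →
        ∃ k : ℕ, y ^ k * x * (y ^ k)⁻¹ = z := by
  obtain ⟨n, -, hq⟩ := FiniteField.card F 2
  have hcard : ∀ R : Sylow 2 P2, Nat.card (R : Subgroup P2) = Fintype.card F := fun R => by
    rw [R.card_eq_multiplicity, H62.PU.psl_card F, Nat.factorization_mul (by positivity) (by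
      have := Nat.le_self_pow (n := 2) (by norm_num) (Fintype.card F)
      have := Fintype.one_lt_card (α := F); omega), Finsupp.add_apply, hq,
      Nat.Prime.factorization_pow Nat.prime_two, Finsupp.single_eq_same,
      Nat.factorization_eq_zero_of_not_dvd, add_zero]
    intro h
    have h2 : 2 ∣ (2 ^ (n : ℕ)) ^ 2 := dvd_pow (dvd_pow_self 2 n.ne_zero) (by norm_num)
    have h3 : 1 ≤ (2 ^ (n : ℕ)) ^ 2 := Nat.one_le_pow _ _ (by positivity)
    omega
  refine ⟨hcard Q, ?_⟩
  obtain ⟨R, hR⟩ := (Linear.Dickson.isPGroup_cen_stdUni (F := F) 2).exists_le_sylow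
  have hRU : (R : Subgroup P2) = Linear.Dickson.cen (Linear.Dickson.stdUni : P2) :=
    (eq_of_le_of_card_ge hR (le_of_eq (by
      rw [hcard R, Linear.Dickson.card_cen_stdUni]))).symm
  obtain ⟨g, hg⟩ := MulAction.exists_smul_eq P2 R Q
  have hmap : (Q : Subgroup P2) = (R : Subgroup P2).map (MulAut.conj g).toMonoidHom := by
    rw [← hg]; rfl
  obtain ⟨ω, hω⟩ := IsCyclic.exists_generator (α := Fˣ)
  set y := g * Linear.Mitchell.PSLTwo.torEl ω * g⁻¹ with hy
  have hpow : ∀ (k : ℕ) (a : F), y ^ k * (g * Linear.Mitchell.PSLTwo.upU a * g⁻¹) * (y ^ k)⁻¹ =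
      g * Linear.Mitchell.PSLTwo.upU (((ω : F) * ω) ^ k * a) * g⁻¹ := fun k a => by
    rw [hy, conj_pow, ← Linear.Mitchell.PSLTwo.torEl_pow_conj]
    group
  have hup : ∀ x ∈ (Q : Subgroup P2),
      ∃ a, g * Linear.Mitchell.PSLTwo.upU a * g⁻¹ = x := by
    intro x hx
    rw [hmap, hRU] at hx
    obtain ⟨v, hv, rfl⟩ := hx
    obtain ⟨a, rfl⟩ := Linear.Mitchell.PSLTwo.exists_upU hv
    exact ⟨a, rfl⟩
  have hyN : y ∈ normalizer ((Q : Subgroup P2) : Set P2) := by
    refine Components.mem_normalizer_of_map_conj_eq (eq_of_le_of_card_ge ?_ (le_of_eq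
      (Subgroup.card_map_of_injective (MulAut.conj y).injective).symm))
    rintro _ ⟨x, hx, rfl⟩
    obtain ⟨a, rfl⟩ := hup x hx
    have h1 := hpow 1 a
    rw [pow_one] at h1
    show y * (g * Linear.Mitchell.PSLTwo.upU a * g⁻¹) * y⁻¹ ∈ (Q : Subgroup P2)
    rw [h1, hmap, hRU]
    exact ⟨_, Linear.Mitchell.PSLTwo.upU_mem _, rfl⟩
  refine ⟨y, hyN, fun x hx z hz hx1 hz1 => ?_⟩
  obtain ⟨a, rfl⟩ := hup x hx
  obtain ⟨b, rfl⟩ := hup z hz
  have ha : a ≠ 0 := fun h => hx1 (by rw [h, Linear.Mitchell.PSLTwo.upU_zero]; group)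
  have hb : b ≠ 0 := fun h => hz1 (by rw [h, Linear.Mitchell.PSLTwo.upU_zero]; group)
  obtain ⟨j, hj⟩ : ∃ j : ℕ, ω ^ j = Units.mk0 b hb / Units.mk0 a ha :=
    Submonoid.mem_powers_iff _ _ |>.1 (mem_powers_iff_mem_zpowers.2 (hω _))
  -- squaring is onto as the order of `Fˣ` is odd
  have hodd : Odd (Nat.card Fˣ) := by
    classical
    rw [Nat.card_eq_fintype_card, Fintype.card_units, hq]
    exact Nat.Even.sub_odd Nat.one_le_two_pow (Nat.even_pow.2 ⟨even_two, n.ne_zero⟩) odd_one
  obtain ⟨m, hm⟩ := hodd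
  refine ⟨j * (m + 1), ?_⟩
  rw [hpow]
  congr 3
  have h1 : (ω * ω) ^ (j * (m + 1)) = Units.mk0 b hb / Units.mk0 a ha := by
    rw [← hj, ← pow_two, ← pow_mul, show 2 * (j * (m + 1)) = j + (2 * m + 1) * j by ring, pow_add,
      ← hm, pow_mul, pow_card_eq_one', one_pow, mul_one]
  have h2 : ((ω : F) * ω) ^ (j * (m + 1)) = b / a := by
    have := congrArg Units.val h1
    simpa [Units.val_div_eq_div_val] using this
  rw [h2, div_mul_cancel₀ _ ha]

end PSL

/-- The data of `PSL(2, 2 ^ n)`. -/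
theorem goodPiece_evenPSL (hs : IsSimpleGroup L) (hn : ¬ IsMulCommutative L)
    (hA : H10.Walter.AbSyl L) (h : H10.Walter.IsEvenPSL L) (P : Sylow 2 L) :
    GoodPiece (P : Subgroup L) := by
  have hsq := H58.CI.shape_elementary (Or.inl h) P (hA P)
  obtain ⟨F, _, _, n, hn2, hc, ⟨e⟩⟩ := h
  haveI := H58.CI.charP_two_of_pow hc
  set Q := P.mapSurjective (f := e.toMonoidHom) e.surjective with hQ
  obtain ⟨hq, y, hy, ht⟩ := exists_cyc_even Q
  have hPc : Nat.card (P : Subgroup L) = Fintype.card F := by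
    rw [← hq]
    exact (Subgroup.card_map_of_injective e.injective).symm
  have hmem : ∀ x, e x ∈ (Q : Subgroup _) ↔ x ∈ (P : Subgroup L) := fun x =>
    Subgroup.mem_map_iff_mem (f := e.toMonoidHom) e.injective
  refine goodPiece_of_selfCentralizing hs hn hsq ?_ ?_ ?_ ?_
  · rw [hPc, hc]
    exact (show 4 ≤ 2 ^ 2 by norm_num).trans (Nat.pow_le_pow_right two_pos hn2)
  · intro x hx hx1
    have hp : IsPGroup 2 (centralizer ({x} : Set L)) := by
      intro g
      have hge : e (g : L) ∈ centralizer ({e x} : Set (Matrix.ProjectiveSpecialLinearGroup (Fin 2) F)) := by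
        rw [mem_centralizer_singleton_iff, ← map_mul, ← map_mul,
          mem_centralizer_singleton_iff.1 g.2]
      obtain ⟨k, hk⟩ := H62.PU.psl_centralizer_involution (by simpa using hx1)
        (by rw [← map_mul, hsq x hx, map_one]) ⟨_, hge⟩
      refine ⟨k, Subtype.ext (e.injective ?_)⟩
      simpa using congrArg Subtype.val hk
    refine P.3 hp fun g hg => mem_centralizer_singleton_iff.2 ?_
    exact congrArg Subtype.val ((hA P).is_comm.comm ⟨g, hg⟩ ⟨x, hx⟩)
  · refine ⟨e.symm y, mem_normalizer_iff.2 fun x => ?_, fun x hx z hz hx1 hz1 => ?_⟩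
    · rw [← hmem x, ← hmem (e.symm y * x * (e.symm y)⁻¹), map_mul, map_mul, map_inv,
        e.apply_symm_apply]
      exact mem_normalizer_iff.1 hy _
    · obtain ⟨k, hk⟩ := ht (e x) ((hmem x).2 hx) (e z) ((hmem z).2 hz) (by simpa using hx1)
        (by simpa using hz1)
      refine ⟨k, e.injective ?_⟩
      simpa [map_pow] using hk
  · rw [hPc, Nat.card_congr e.toEquiv]
    exact H62.PU.psl_card F

end Cfsg.Agent.H21.Walter
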